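import Mathlib

/-!
# The subgroup generated by the derangements of a transitive action
-/

set_option autoImplicit false

namespace CfsgLib.Recog

open MulAction

/-- The subgroup generated by the derangements. -/
abbrev derSub (G Ω : Type*) [Group G] [MulAction G Ω] : Subgroup G :=
  Subgroup.closure {g : G | ∀ ω : Ω, g • ω ≠ ω}

/-- Burnside's orbit counting lemma with `Nat.card`. -/
theorem burnside_nat (G X : Type*) [Group G] [Fintype G] [MulAction G X] [Finite X] :
    ∑ g : G, Nat.card (fixedBy X g) = Nat.card (orbitRel.Quotient G X) * Nat.card G := by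
  classical
  haveI := Fintype.ofFinite X
  haveI : ∀ g : G, Fintype (fixedBy X g) := fun g => Fintype.ofFinite _
  haveI : Fintype (orbitRel.Quotient G X) := Fintype.ofFinite _
  have := sum_card_fixedBy_eq_card_orbits_mul_card_group G X
  simp only [Nat.card_eq_fintype_card]
  exact this

theorem card_orbits_eq_one (G X : Type*) [Group G] [MulAction G X] [IsPretransitive G X]
    [Nonempty X] : Nat.card (orbitRel.Quotient G X) = 1 := by
  rw [Nat.card_eq_one_iff_unique]
  refine ⟨⟨?_⟩, ⟨Quotient.mk'' (Classical.arbitrary X)⟩⟩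
  rintro ⟨a⟩ ⟨b⟩
  exact Quotient.sound (by
    change a ∈ orbit G b
    exact exists_smul_eq G b a)

theorem isPretransitive_of_card_orbits_le_one (G X : Type*) [Group G] [MulAction G X] [Finite X]
    (h : Nat.card (orbitRel.Quotient G X) ≤ 1) : IsPretransitive G X := by
  have : Subsingleton (orbitRel.Quotient G X) := Finite.card_le_one_iff_subsingleton.1 h
  refine ⟨fun a b => ?_⟩
  have h1 : (Quotient.mk'' b : orbitRel.Quotient G X) = Quotient.mk'' a := Subsingleton.elim _ _
  exact Quotient.exact' h1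

open Classical in
theorem sum_split_subgroup {G : Type*} [Group G] [Fintype G] (D : Subgroup G) (f : G → ℕ) :
    ∑ g : G, f g = ∑ d : D, f d + ∑ g ∈ Finset.univ.filter (fun g => g ∉ D), f g := by
  rw [← Finset.sum_filter_add_sum_filter_not Finset.univ (fun g => g ∈ D)]
  congr 1
  exact Finset.sum_subtype _ (by simp) _

open Classical in
theorem card_filter_not_mem {G : Type*} [Group G] [Fintype G] (D : Subgroup G) :
    Nat.card D + (Finset.univ.filter (fun g => g ∉ D)).card = Nat.card G := by
  have := sum_split_subgroup D (fun _ => 1)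
  simp only [Finset.sum_const, Finset.card_univ, smul_eq_mul, mul_one] at this
  rw [Nat.card_eq_fintype_card, Nat.card_eq_fintype_card (α := G), this]

theorem derSub_normal (G Ω : Type*) [Group G] [MulAction G Ω] : (derSub G Ω).Normal := by
  refine ⟨fun n hn g => ?_⟩
  induction hn using Subgroup.closure_induction with
  | mem x hx =>
    apply Subgroup.subset_closure
    intro ω h
    apply hx (g⁻¹ • ω)
    rw [mul_smul, mul_smul, smul_eq_iff_eq_inv_smul] at h
    exact h
  | one => simp
  | mul x y _ _ hx hy =>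
    have : g * (x * y) * g⁻¹ = (g * x * g⁻¹) * (g * y * g⁻¹) := by group
    rw [this]; exact Subgroup.mul_mem _ hx hy
  | inv x _ hx =>
    have : g * x⁻¹ * g⁻¹ = (g * x * g⁻¹)⁻¹ := by group
    rw [this]; exact Subgroup.inv_mem _ hx

theorem one_le_card_fixedBy_of_not_mem {G Ω : Type*} [Group G] [MulAction G Ω] [Finite Ω]
    {g : G} (hg : g ∉ derSub G Ω) : 1 ≤ Nat.card (fixedBy Ω g) := by
  have : ∃ ω : Ω, g • ω = ω := by
    by_contra h
    push Not at h
    exact hg (Subgroup.subset_closure h)
  obtain ⟨ω, hω⟩ := this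
  haveI : Nonempty (fixedBy Ω g) := ⟨⟨ω, hω⟩⟩
  exact Nat.card_pos

/-- The derangement subgroup is transitive, and elements outside it fix exactly one point. -/
theorem derSub_key (G Ω : Type*) [Group G] [Finite G] [MulAction G Ω] [Finite Ω]
    [IsPretransitive G Ω] :
    IsPretransitive (derSub G Ω) Ω ∧ ∀ g : G, g ∉ derSub G Ω → Nat.card (fixedBy Ω g) = 1 := by
  classical
  rcases isEmpty_or_nonempty Ω with hΩ | hΩ
  · refine ⟨⟨fun a => isEmptyElim a⟩, fun g hg => ?_⟩
    exact absurd (Subgroup.subset_closure (fun ω => isEmptyElim ω)) hg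
  haveI := Fintype.ofFinite G
  set D := derSub G Ω with hD
  have h1 := burnside_nat G Ω
  rw [card_orbits_eq_one, one_mul, sum_split_subgroup D] at h1
  have h2 := burnside_nat D Ω
  have h2' : ∑ d : D, Nat.card (fixedBy Ω (d : G)) =
      Nat.card (orbitRel.Quotient D Ω) * Nat.card D := h2
  rw [h2'] at h1
  have h3 := card_filter_not_mem D
  have h4 : (Finset.univ.filter (fun g => g ∉ D)).card ≤
      ∑ g ∈ Finset.univ.filter (fun g => g ∉ D), Nat.card (fixedBy Ω g) := by
    rw [Finset.card_eq_sum_ones]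
    apply Finset.sum_le_sum
    intro g hg
    exact one_le_card_fixedBy_of_not_mem (by simpa using hg)
  have hDpos : 0 < Nat.card D := Nat.card_pos
  haveI : Nonempty (orbitRel.Quotient D Ω) := ⟨Quotient.mk'' (Classical.arbitrary Ω)⟩
  have hr : 0 < Nat.card (orbitRel.Quotient D Ω) := Nat.card_pos
  have hr1 : Nat.card (orbitRel.Quotient D Ω) ≤ 1 := by
    by_contra h
    push Not at h
    nlinarith
  refine ⟨isPretransitive_of_card_orbits_le_one _ _ hr1, fun g hg => ?_⟩
  have hr2 : Nat.card (orbitRel.Quotient D Ω) = 1 := le_antisymm hr1 hr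
  rw [hr2, one_mul] at h1
  have h5 : ∑ g ∈ Finset.univ.filter (fun g => g ∉ D), 1 =
      ∑ g ∈ Finset.univ.filter (fun g => g ∉ D), Nat.card (fixedBy Ω g) := by
    rw [← Finset.card_eq_sum_ones]; omega
  have h6 := (Finset.sum_eq_sum_iff_of_le (fun g hg =>
    one_le_card_fixedBy_of_not_mem (G := G) (Ω := Ω) (g := g) (by simpa using hg))).1 h5 g
    (by simpa using hg)
  exact h6.symm

theorem mem_derSub_of_fix_two {G Ω : Type*} [Group G] [Finite G] [MulAction G Ω] [Finite Ω]
    [IsPretransitive G Ω] {g : G} {a b : Ω} (hab : a ≠ b) (ha : g • a = a) (hb : g • b = b) :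
    g ∈ derSub G Ω := by
  by_contra h
  have h1 := (derSub_key G Ω).2 g h
  rw [Nat.card_eq_one_iff_unique] at h1
  have := h1.1.elim (⟨a, ha⟩ : fixedBy Ω g) ⟨b, hb⟩
  exact hab (congrArg Subtype.val this)

/-- If `D` is transitive then `G = D G_a`, as an index formula. -/
theorem relIndex_stabilizer_eq_index {G Ω : Type*} [Group G] [MulAction G Ω]
    (D : Subgroup G) [D.Normal] [IsPretransitive D Ω] (a : Ω) :
    D.relIndex (stabilizer G a) = D.index := by
  have : D ⊔ stabilizer G a = ⊤ := by
    rw [eq_top_iff]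
    intro g _
    obtain ⟨d, hd⟩ := exists_smul_eq D a (g • a)
    have h1 : (d : G)⁻¹ * g ∈ stabilizer G a := by
      rw [mem_stabilizer_iff, mul_smul, ← hd]
      exact inv_smul_smul (d : G) a
    have : g = d * ((d : G)⁻¹ * g) := by group
    rw [this]
    exact Subgroup.mul_mem _ (Subgroup.mem_sup_left d.2) (Subgroup.mem_sup_right h1)
  rw [← Subgroup.relIndex_sup_left, this, Subgroup.relIndex_top_right]

/-- The index of the derangement subgroup divides every non-trivial subdegree. -/
theorem index_derSub_dvd_subdegree {G Ω : Type*} [Group G] [Finite G] [MulAction G Ω] [Finite Ω]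
    [IsPretransitive G Ω] {a b : Ω} (hab : a ≠ b) :
    (derSub G Ω).index ∣ Nat.card (orbit (stabilizer G a) b) := by
  haveI := derSub_normal G Ω
  haveI := (derSub_key G Ω).1
  rw [← relIndex_stabilizer_eq_index (derSub G Ω) a,
    Nat.card_congr (orbitEquivQuotientStabilizer (stabilizer G a) b)]
  change _ ∣ (stabilizer (stabilizer G a) b).index
  apply Subgroup.index_dvd_of_le
  intro g hg
  exact mem_derSub_of_fix_two hab g.2 hg

/-- A number dividing the length of every orbit in an invariant set divides the size of the set. -/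
theorem dvd_ncard_of_dvd_orbits {H Ω : Type*} [Group H] [MulAction H Ω] [Finite Ω] (k : ℕ)
    (S : Set Ω) (hS : ∀ h : H, ∀ x ∈ S, h • x ∈ S)
    (hk : ∀ x ∈ S, k ∣ Nat.card (orbit H x)) : k ∣ S.ncard := by
  induction hn : S.ncard using Nat.strong_induction_on generalizing S with
  | _ n ih =>
    rcases S.eq_empty_or_nonempty with rfl | ⟨x, hx⟩
    · subst hn; simp
    have hsub : orbit H x ⊆ S := by
      rintro _ ⟨h, rfl⟩
      exact hS h x hx
    have hpos : 0 < (orbit H x).ncard := by
      rw [Set.ncard_pos]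
      exact ⟨x, mem_orbit_self x⟩
    have hsum := Set.ncard_sdiff_add_ncard_of_subset hsub
    have h1 := ih (S \ orbit H x).ncard (by omega) (S \ orbit H x) (by
      rintro h y ⟨hy, hy'⟩
      refine ⟨hS h y hy, fun h' => hy' ?_⟩
      obtain ⟨h2, hh2⟩ := h'
      refine ⟨h⁻¹ * h2, ?_⟩
      change (h⁻¹ * h2) • x = y
      change h2 • x = h • y at hh2
      rw [mul_smul, hh2, inv_smul_smul]) (fun y hy => hk y hy.1) rfl
    rw [← hn, ← hsum]
    exact dvd_add h1 (hk x hx)

/-- The index of the derangement subgroup divides `#B - 1` for every `G_a`-invariant `B ∋ a`. -/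
theorem index_derSub_dvd_ncard_sub_one {G Ω : Type*} [Group G] [Finite G] [MulAction G Ω]
    [Finite Ω] [IsPretransitive G Ω] {a : Ω} (B : Set Ω) (ha : a ∈ B)
    (hB : ∀ g : G, g • a = a → ∀ x ∈ B, g • x ∈ B) :
    (derSub G Ω).index ∣ B.ncard - 1 := by
  rw [← Set.ncard_sdiff_singleton_of_mem ha]
  apply dvd_ncard_of_dvd_orbits (H := stabilizer G a)
  · rintro h x ⟨hx, hxa⟩
    refine ⟨hB h h.2 x hx, fun h' => hxa ?_⟩
    have h1 : (h : G) • x = (h : G) • a := by rw [h.2]; exact h'
    exact smul_left_cancel _ h1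
  · rintro x ⟨_, hxa⟩
    exact index_derSub_dvd_subdegree (fun h => hxa h.symm)

theorem index_derSub_dvd_card_sub_one (G Ω : Type*) [Group G] [Finite G] [MulAction G Ω]
    [Finite Ω] [IsPretransitive G Ω] [Nonempty Ω] :
    (derSub G Ω).index ∣ Nat.card Ω - 1 := by
  obtain ⟨a⟩ := ‹Nonempty Ω›
  have := index_derSub_dvd_ncard_sub_one (G := G) (a := a) Set.univ (Set.mem_univ _)
    (fun _ _ _ _ => Set.mem_univ _)
  rwa [Set.ncard_univ] at this

end CfsgLib.Recog
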