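import Mathlib

/-!
Extremely primitive permutation groups: Manning's faithfulness theorem and basic lemmas.
-/

set_option autoImplicit false

namespace CfsgLib.Recog

open MulAction

variable {G : Type*} [Group G] {Ω : Type*} [MulAction G Ω]

theorem eq_bot_of_normal_le_stabilizer [FaithfulSMul G Ω] [IsPretransitive G Ω] {M : Subgroup G}
    [hM : M.Normal] {α : Ω} (h : M ≤ stabilizer G α) : M = ⊥ := by
  rw [Subgroup.eq_bot_iff_forall]
  intro m hm
  apply eq_of_smul_eq_smul (α := Ω)
  intro b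
  obtain ⟨x, rfl⟩ := exists_smul_eq G α b
  have h1 : (x⁻¹ * m * x) • α = α := h (by simpa using hM.conj_mem m hm x⁻¹)
  rw [mul_smul, mul_smul, inv_smul_eq_iff] at h1
  rw [h1, one_smul]

theorem nontrivial_of_stabilizer_ne_bot [FaithfulSMul G Ω] {M : Subgroup G} (hM : M ≠ ⊥) :
    Nontrivial Ω := by
  by_contra h
  rw [not_nontrivial_iff_subsingleton] at h
  apply hM
  rw [Subgroup.eq_bot_iff_forall]
  intro m _
  exact eq_of_smul_eq_smul (α := Ω) (fun a => Subsingleton.elim _ _)

/-- A nontrivial normal subgroup of a point stabiliser of a primitive group has the point stabiliser as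
its normaliser. -/
theorem normalizer_eq_stabilizer [FaithfulSMul G Ω] [IsPreprimitive G Ω] {α : Ω} {M : Subgroup G}
    (hM : M ≠ ⊥) (hle : M ≤ stabilizer G α)
    (hn : stabilizer G α ≤ Subgroup.normalizer (M : Set G)) :
    Subgroup.normalizer (M : Set G) = stabilizer G α := by
  have := nontrivial_of_stabilizer_ne_bot (Ω := Ω) hM
  by_contra hne
  have h1 := (IsPreprimitive.isCoatom_stabilizer_of_isPreprimitive G α).2 _
    (lt_of_le_of_ne hn (Ne.symm hne))
  have := Subgroup.normalizer_eq_top_iff.1 h1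
  exact hM (eq_bot_of_normal_le_stabilizer hle)

theorem eq_of_stabilizer_le [Finite G] [FaithfulSMul G Ω] [IsPreprimitive G Ω] {α β : Ω}
    (hH : stabilizer G α ≠ ⊥) (h : stabilizer G α ≤ stabilizer G β) : β = α := by
  obtain ⟨g, rfl⟩ := exists_smul_eq G α β
  have h1 := normalizer_eq_stabilizer hH le_rfl Subgroup.le_normalizer
  have h2 : g⁻¹ ∈ Subgroup.normalizer ((stabilizer G α : Subgroup G) : Set G) := by
    apply Subgroup.mem_normalizer_fintype
    intro n hn
    have h3 : n • g • α = g • α := h hn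
    change (g⁻¹ * n * g⁻¹⁻¹) • α = α
    rw [inv_inv, mul_smul, mul_smul, h3, inv_smul_smul]
  rw [h1] at h2
  exact (stabilizer G α).inv_mem_iff.1 h2

theorem stabilizer_sup_eq_top [Finite G] [FaithfulSMul G Ω] [IsPreprimitive G Ω] {α β : Ω}
    (hH : stabilizer G β ≠ ⊥) (h : β ≠ α) : stabilizer G α ⊔ stabilizer G β = ⊤ := by
  have := nontrivial_of_stabilizer_ne_bot (Ω := Ω) hH
  apply (IsPreprimitive.isCoatom_stabilizer_of_isPreprimitive G α).2
  refine lt_of_le_of_ne le_sup_left (fun h1 => h ?_)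
  exact (eq_of_stabilizer_le hH (le_sup_right.trans h1.ge)).symm

theorem mem_orbit_subgroup_iff {K : Subgroup G} {a b : Ω} :
    b ∈ orbit K a ↔ ∃ k ∈ K, k • a = b :=
  ⟨fun ⟨k, hk⟩ => ⟨k, k.2, hk⟩, fun ⟨k, hk, h⟩ => ⟨⟨k, hk⟩, h⟩⟩

theorem ncard_orbit_subgroup (K : Subgroup G) (a : Ω) :
    (orbit K a).ncard = (stabilizer G a).relIndex K := by
  have h1 : (stabilizer G a).subgroupOf K = stabilizer K a := by ext x; rfl
  rw [Subgroup.relIndex, h1, index_stabilizer]

theorem card_stabilizer_eq [IsPretransitive G Ω] (a b : Ω) :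
    Nat.card (stabilizer G a) = Nat.card (stabilizer G b) := by
  obtain ⟨g, rfl⟩ := exists_smul_eq G a b
  exact Nat.card_congr (stabilizerEquivStabilizer rfl).toEquiv

/-- Paired suborbits have the same length. -/
theorem ncard_orbit_stabilizer_symm [Finite G] [IsPretransitive G Ω] (a b : Ω) :
    (orbit (stabilizer G a) b).ncard = (orbit (stabilizer G b) a).ncard := by
  rw [ncard_orbit_subgroup, ncard_orbit_subgroup]
  have h1 := Subgroup.relIndex_mul_relIndex ⊥ (stabilizer G a ⊓ stabilizer G b) (stabilizer G a)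
    bot_le inf_le_left
  have h2 := Subgroup.relIndex_mul_relIndex ⊥ (stabilizer G a ⊓ stabilizer G b) (stabilizer G b)
    bot_le inf_le_right
  rw [Subgroup.relIndex_bot_left, Subgroup.relIndex_bot_left] at h1 h2
  rw [Subgroup.inf_relIndex_left, card_stabilizer_eq a b] at h1
  rw [Subgroup.inf_relIndex_right, ← h1] at h2
  exact (Nat.eq_of_mul_eq_mul_left Nat.card_pos h2).symm

theorem ncard_orbit_stabilizer_smul (g : G) (a b : Ω) :
    (orbit (stabilizer G (g • a)) (g • b)).ncard = (orbit (stabilizer G a) b).ncard := by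
  have : orbit (stabilizer G (g • a)) (g • b) = (fun x => g • x) '' orbit (stabilizer G a) b := by
    ext x
    simp only [mem_orbit_subgroup_iff, Set.mem_image, mem_stabilizer_iff]
    constructor
    · rintro ⟨k, hk, rfl⟩
      refine ⟨_, ⟨g⁻¹ * k * g, ?_, rfl⟩, ?_⟩
      · rw [mul_smul, mul_smul, hk, inv_smul_smul]
      · rw [mul_smul, mul_smul, smul_inv_smul]
    · rintro ⟨_, ⟨k, hk, rfl⟩, rfl⟩
      refine ⟨g * k * g⁻¹, ?_, ?_⟩
      · rw [mul_smul, mul_smul, inv_smul_smul, hk]
      · rw [mul_smul, mul_smul, inv_smul_smul]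
  rw [this, Set.ncard_image_of_injective _ (MulAction.injective g)]

/-- If an orbit of one point stabiliser is contained in an orbit of another, the second is longer. -/
theorem ncard_orbit_lt [Finite G] [Finite Ω] [FaithfulSMul G Ω] [IsPreprimitive G Ω] {α β γ : Ω}
    (hH : stabilizer G β ≠ ⊥) (h : β ≠ α) (hγ : γ ≠ α)
    (hsub : orbit (stabilizer G α) γ ⊆ orbit (stabilizer G β) γ) :
    (orbit (stabilizer G α) γ).ncard < (orbit (stabilizer G β) γ).ncard := by
  apply Set.ncard_lt_ncard _ (Set.toFinite _)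
  refine ⟨hsub, fun hsup => hγ ?_⟩
  have heq := Set.Subset.antisymm hsub hsup
  let L : Subgroup G :=
    { carrier := {g | ∀ x, x ∈ orbit (stabilizer G α) γ ↔ g • x ∈ orbit (stabilizer G α) γ}
      one_mem' := by intro x; simp
      mul_mem' := by
        intro a b ha hb x
        rw [mul_smul, ← ha, ← hb]
      inv_mem' := by
        intro a ha x
        rw [ha (a⁻¹ • x), smul_inv_smul] }
  have key : ∀ (K : Subgroup G), orbit K γ = orbit (stabilizer G α) γ → K ≤ L := by
    intro K hK k hk x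
    rw [← hK]
    constructor
    · intro hx
      exact mem_orbit_of_mem_orbit (⟨k, hk⟩ : K) hx
    · intro hx
      have := mem_orbit_of_mem_orbit (⟨k, hk⟩⁻¹ : K) hx
      simpa [Subgroup.smul_def] using this
  have hL : L = ⊤ := by
    rw [eq_top_iff, ← stabilizer_sup_eq_top hH h]
    exact sup_le (key _ rfl) (key _ heq.symm)
  obtain ⟨g, hg⟩ := exists_smul_eq G γ α
  have h1 : g ∈ L := by rw [hL]; trivial
  have h2 := (h1 γ).1 (mem_orbit_self γ)
  rw [hg, mem_orbit_subgroup_iff] at h2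
  obtain ⟨k, hk, hk2⟩ := h2
  have : k • α = α := hk
  exact smul_left_cancel k (hk2.trans this.symm)

/-- A normal subgroup `M` of `H` that moves `γ` is transitive on the orbit of `γ`, if `H` is primitive
on that orbit. -/
theorem orbit_eq_of_normal_of_primitive {H M : Subgroup G} (hle : M ≤ H)
    (hn : H ≤ Subgroup.normalizer (M : Set G)) {γ : Ω} (hp : IsPreprimitive H (orbit H γ))
    (hγ : ¬ M ≤ stabilizer G γ) : orbit M γ = orbit H γ := by
  have hN : (M.subgroupOf H).Normal := (Subgroup.normal_subgroupOf_iff_le_normalizer hle).2 hn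
  have htr : IsPretransitive (M.subgroupOf H) (orbit H γ) := by
    apply IsQuasiPreprimitive.isPretransitive_of_normal
    intro h
    apply hγ
    intro m hm
    have h1 : (⟨γ, mem_orbit_self γ⟩ : orbit H γ) ∈ fixedPoints (M.subgroupOf H) (orbit H γ) := by
      rw [h]; trivial
    exact congrArg Subtype.val (h1 ⟨⟨m, hle hm⟩, hm⟩)
  apply Set.Subset.antisymm
  · rintro _ ⟨m, rfl⟩
    exact ⟨⟨m, hle m.2⟩, rfl⟩
  · intro x hx
    obtain ⟨m, hm⟩ := htr.exists_smul_eq ⟨γ, mem_orbit_self γ⟩ ⟨x, hx⟩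
    exact ⟨⟨m, m.2⟩, congrArg Subtype.val hm⟩

/-- Manning's theorem: in an extremely primitive group a nontrivial normal subgroup of a point stabiliser
fixes no second point. -/
theorem manning_not_le_stabilizer [Finite G] [Finite Ω] [FaithfulSMul G Ω] [IsPreprimitive G Ω]
    {α : Ω} (hep : ∀ ω : Ω, IsPreprimitive (stabilizer G α) (orbit (stabilizer G α) ω))
    {K : Subgroup G} (hK : K ≠ ⊥) (hle : K ≤ stabilizer G α)
    (hn : stabilizer G α ≤ Subgroup.normalizer (K : Set G)) {ω : Ω} (hω : ω ≠ α) :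
    ¬ K ≤ stabilizer G ω := by
  intro hKω
  have hH : ∀ β : Ω, stabilizer G β ≠ ⊥ := by
    intro β h
    have h1 := card_stabilizer_eq (G := G) α β
    rw [h, Subgroup.card_bot, Subgroup.card_eq_one] at h1
    exact hK (le_bot_iff.1 (h1 ▸ hle))
  have main : ∀ β γ : Ω, β ≠ α → K ≤ stabilizer G β → ¬ K ≤ stabilizer G γ →
      ∃ δ, δ ≠ α ∧ (orbit (stabilizer G α) β).ncard < (orbit (stabilizer G α) δ).ncard ∧
        (orbit (stabilizer G α) γ).ncard < (orbit (stabilizer G α) δ).ncard := by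
    intro β γ hβ hKβ hKγ
    have hγ : γ ≠ α := by rintro rfl; exact hKγ hle
    have hβγ : β ≠ γ := by rintro rfl; exact hKγ hKβ
    have horb := orbit_eq_of_normal_of_primitive hle hn (hep γ) hKγ
    obtain ⟨g, hg⟩ := exists_smul_eq G β α
    refine ⟨g • γ, fun h => hβγ (smul_left_cancel g (hg.trans h.symm)), ?_, ?_⟩
    · rw [← hg, ncard_orbit_stabilizer_smul, ncard_orbit_stabilizer_symm β γ, hg]
      apply ncard_orbit_lt (hH γ) hγ hβ
      rintro _ ⟨h, rfl⟩
      have h1 : (h⁻¹ : stabilizer G α) • γ ∈ orbit K γ := by rw [horb]; exact mem_orbit γ _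
      obtain ⟨k, hk, hk2⟩ := mem_orbit_subgroup_iff.1 h1
      rw [mem_orbit_subgroup_iff]
      refine ⟨h * k, ?_, ?_⟩
      · rw [mem_stabilizer_iff, mul_smul, hk2]
        exact smul_inv_smul h γ
      · have : k • β = β := hKβ hk
        rw [mul_smul, this]; rfl
    · rw [← hg, ncard_orbit_stabilizer_smul, hg]
      apply ncard_orbit_lt (hH β) hβ hγ
      rw [← horb]
      rintro _ ⟨k, rfl⟩
      exact ⟨⟨k, hKβ k.2⟩, rfl⟩
  obtain ⟨ω0, hω0, hmax⟩ := Set.exists_max_image {x : Ω | x ≠ α}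
    (fun x => (orbit (stabilizer G α) x).ncard) (Set.toFinite _) ⟨ω, hω⟩
  by_cases h0 : K ≤ stabilizer G ω0
  · have : ∃ γ : Ω, ¬ K ≤ stabilizer G γ := by
      by_contra hall
      push Not at hall
      apply hK
      rw [Subgroup.eq_bot_iff_forall]
      intro k hk
      exact eq_of_smul_eq_smul (α := Ω) (fun a => by rw [one_smul]; exact hall a hk)
    obtain ⟨γ, hγ⟩ := this
    obtain ⟨δ, hδ, h1, -⟩ := main ω0 γ hω0 h0 hγ
    exact absurd (hmax δ hδ) (not_le.2 h1)
  · obtain ⟨δ, hδ, -, h1⟩ := main ω ω0 hω hKω h0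
    exact absurd (hmax δ hδ) (not_le.2 h1)

/-- In an extremely primitive group a nontrivial normal subgroup of a point stabiliser has the same
orbits as the stabiliser. -/
theorem manning_orbit_eq [Finite G] [Finite Ω] [FaithfulSMul G Ω] [IsPreprimitive G Ω]
    {α : Ω} (hep : ∀ ω : Ω, IsPreprimitive (stabilizer G α) (orbit (stabilizer G α) ω))
    {K : Subgroup G} (hK : K ≠ ⊥) (hle : K ≤ stabilizer G α)
    (hn : stabilizer G α ≤ Subgroup.normalizer (K : Set G)) (ω : Ω) :
    orbit K ω = orbit (stabilizer G α) ω := by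
  by_cases hω : ω = α
  · subst hω
    ext x
    simp only [mem_orbit_subgroup_iff]
    constructor
    · rintro ⟨k, hk, rfl⟩
      exact ⟨k, hle hk, rfl⟩
    · rintro ⟨k, hk, rfl⟩
      exact ⟨1, K.one_mem, by rw [one_smul]; exact hk.symm⟩
  · exact orbit_eq_of_normal_of_primitive hle hn (hep ω)
      (manning_not_le_stabilizer hep hK hle hn hω)

/-- Manning's theorem, elementwise: the stabiliser is faithful on each nontrivial suborbit. -/
theorem manning_faithful [Finite G] [Finite Ω] [FaithfulSMul G Ω] [IsPreprimitive G Ω]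
    {α : Ω} (hep : ∀ ω : Ω, IsPreprimitive (stabilizer G α) (orbit (stabilizer G α) ω))
    {ω : Ω} (hω : ω ≠ α) {h : G} (hh : h ∈ stabilizer G α)
    (hfix : ∀ x ∈ orbit (stabilizer G α) ω, h • x = x) : h = 1 := by
  let K : Subgroup G :=
    { carrier := {g | g • α = α ∧ ∀ x ∈ orbit (stabilizer G α) ω, g • x = x}
      one_mem' := ⟨one_smul _ _, fun x _ => one_smul _ _⟩
      mul_mem' := by
        rintro a b ⟨ha, ha'⟩ ⟨hb, hb'⟩
        exact ⟨by rw [mul_smul, hb, ha], fun x hx => by rw [mul_smul, hb' x hx, ha' x hx]⟩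
      inv_mem' := by
        rintro a ⟨ha, ha'⟩
        exact ⟨inv_smul_eq_iff.2 ha.symm, fun x hx => inv_smul_eq_iff.2 (ha' x hx).symm⟩ }
  by_contra h1
  have hK : K ≠ ⊥ := by
    intro h2
    have : h ∈ K := ⟨hh, hfix⟩
    rw [h2] at this
    exact h1 this
  refine manning_not_le_stabilizer hep hK (fun k hk => hk.1) ?_ hω
    (fun k hk => hk.2 ω (mem_orbit_self ω))
  rw [Subgroup.le_normalizer_iff]
  rintro g hg k ⟨hk, hk'⟩
  have hg' : g • α = α := hg
  refine ⟨?_, fun x hx => ?_⟩
  · rw [mul_smul, mul_smul, inv_smul_eq_iff.2 hg'.symm, hk, hg']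
  · have := hk' _ (mem_orbit_of_mem_orbit (⟨g, hg⟩⁻¹ : stabilizer G α) hx)
    rw [mul_smul, mul_smul]
    exact (congrArg (g • ·) this).trans (smul_inv_smul g x)

/-- In an extremely primitive group with a regular normal subgroup `N`, a nontrivial normal subgroup of a
point stabiliser normalises no proper nontrivial subgroup of `N`. -/
theorem irreducible_of_regular [Finite G] [Finite Ω] [FaithfulSMul G Ω] [IsPreprimitive G Ω]
    {α : Ω} (hep : ∀ ω : Ω, IsPreprimitive (stabilizer G α) (orbit (stabilizer G α) ω))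
    {N : Subgroup G} [hN : N.Normal] (hreg : ∀ n ∈ N, n • α = α → n = 1)
    {M : Subgroup G} (hM : M ≠ ⊥) (hle : M ≤ stabilizer G α)
    (hn : stabilizer G α ≤ Subgroup.normalizer (M : Set G)) (L : Subgroup G) (hL : L ≤ N)
    (hML : M ≤ Subgroup.normalizer (L : Set G)) : L = ⊥ ∨ L = N := by
  have := nontrivial_of_stabilizer_ne_bot (Ω := Ω) hM
  have hHL : stabilizer G α ≤ Subgroup.normalizer (L : Set G) := by
    rw [Subgroup.le_normalizer_iff]
    intro h hh l hl
    have h1 : h • l • α ∈ orbit M (l • α) := by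
      rw [manning_orbit_eq hep hM hle hn]
      exact mem_orbit _ (⟨h, hh⟩ : stabilizer G α)
    obtain ⟨m, hm, hm2⟩ := mem_orbit_subgroup_iff.1 h1
    have h2 : m * l * m⁻¹ ∈ L := (Subgroup.mem_normalizer_iff.1 (hML hm) l).1 hl
    have h3 : (m * l * m⁻¹)⁻¹ * (h * l * h⁻¹) = 1 := by
      apply hreg _ (N.mul_mem (N.inv_mem (hL h2)) (hN.conj_mem l (hL hl) h))
      have hh' : h⁻¹ • α = α := (stabilizer G α).inv_mem hh
      have hm' : m⁻¹ • α = α := (stabilizer G α).inv_mem (hle hm)
      rw [mul_smul, inv_smul_eq_iff, mul_smul, mul_smul, mul_smul, mul_smul, hh', hm', hm2]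
    rw [← inv_mul_eq_one.1 h3]
    exact h2
  by_cases h : L ≤ stabilizer G α
  · left
    rw [Subgroup.eq_bot_iff_forall]
    exact fun l hl => hreg l (hL hl) (h hl)
  · right
    have h1 : L ⊔ stabilizer G α = ⊤ :=
      (IsPreprimitive.isCoatom_stabilizer_of_isPreprimitive G α).2 _
        (lt_of_le_of_ne le_sup_right (fun h2 => h (le_sup_left.trans h2.ge)))
    refine le_antisymm hL (fun n hn => ?_)
    have h2 : n ∈ ((L ⊔ stabilizer G α : Subgroup G) : Set G) := by rw [h1]; trivial
    rw [Subgroup.coe_mul_of_right_le_normalizer_left _ _ hHL] at h2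
    obtain ⟨l, hl, s, hs, rfl⟩ := h2
    have h3 : s = 1 := hreg s (by simpa using N.mul_mem (N.inv_mem (hL hl)) hn) hs
    simpa [h3] using hl

end CfsgLib.Recog
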