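import Mathlib
import Cfsg.Agent.Lib.Recog.SpecCover
import Cfsg.Agent.Lib.Recog.PrimeGraphCover

/-!
Prime graphs of the universal covers: a non-zero function with values in characteristic `p` whose
coset sums vanish for the elements of the "bad" prime orders gives arbitrarily large groups with
the same prime graph.
-/

set_option autoImplicit false

namespace CfsgLib.Recog

open Finset

theorem exists_conj_mem_zpowers {G : Type*} [Group G] [Finite G] {p : ℕ} [Fact p.Prime]
    (hG : (Nat.card G).factorization p = 1) {g h : G} (hg : orderOf g = p) (hh : orderOf h = p) :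
    ∃ c : G, c * g * c⁻¹ ∈ Subgroup.zpowers h := by
  let P : Sylow p G := Sylow.ofCard (Subgroup.zpowers g) (by rw [Nat.card_zpowers, hg, hG, pow_one])
  let Q : Sylow p G := Sylow.ofCard (Subgroup.zpowers h) (by rw [Nat.card_zpowers, hh, hG, pow_one])
  obtain ⟨c, hc⟩ := MulAction.exists_smul_eq G P Q
  refine ⟨c, ?_⟩
  have h1 : c * g * c⁻¹ ∈ ((c • P : Sylow p G) : Subgroup G) :=
    Subgroup.smul_mem_pointwise_smul g (MulAut.conj c) _ (Subgroup.mem_zpowers g)
  rw [hc] at h1
  exact h1

theorem samePG_cover {G A : Type*} [Group G] [Finite G] [AddCommGroup A] [Finite A] (p : ℕ)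
    (hp : p.Prime) (hA : ∀ a : A, p • a = 0) (hpG : p ∣ Nat.card G) (m : ℕ → ℕ)
    (hedge : ∀ g : G, (orderOf g).Prime → orderOf g ≠ p → m (orderOf g) ≠ 1 →
      ∃ x : G, orderOf x = p * orderOf g) : SamePG G (Cover G A m) := by
  apply samePG_semidirect (coverAct G A m) p hp _ hpG
  · intro g w h1 h2 h3 h4
    apply hedge g h1 h2
    intro h5
    apply h3
    have h6 : ∀ x, (w.toAdd : G → A) (x * g) = (w.toAdd : G → A) x := fun x =>
      congrArg (fun u : Multiplicative (coverSub G A m) => (u.toAdd : G → A) x) h4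
    have h7 : ∀ x j, (w.toAdd : G → A) (x * g ^ j) = (w.toAdd : G → A) x := by
      intro x j
      induction j with
      | zero => rw [pow_zero, mul_one]
      | succ j ih => rw [pow_succ, ← mul_assoc, h6, ih]
    apply Multiplicative.toAdd.injective
    ext x
    have h8 := w.toAdd.2 g x
    rw [h5, one_smul, cosetSum] at h8
    simp only [h7, sum_const, card_range] at h8
    have h9 := Nat.dvd_gcd (addOrderOf_dvd_of_nsmul_eq_zero h8)
      (addOrderOf_dvd_of_nsmul_eq_zero (hA ((w.toAdd : G → A) x)))
    rw [((Nat.coprime_primes h1 hp).2 h2).gcd_eq_one, Nat.dvd_one, AddMonoid.addOrderOf_eq_one_iff]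
      at h9
    exact h9
  · intro w
    apply Multiplicative.toAdd.injective
    ext x
    exact hA _

/-- Arbitrarily large groups with the prime graph of `G`. -/
theorem exists_large_samePG_of_cosetSum {G A : Type*} [Group G] [Finite G] [AddCommGroup A]
    [Finite A] (p : ℕ) (hp : p.Prime) (hA : ∀ a : A, p • a = 0) (hpG : p ∣ Nat.card G)
    (bad : ℕ → Prop) (hedge : ∀ g : G, (orderOf g).Prime → orderOf g ≠ p → ¬ bad (orderOf g) →
      ∃ x : G, orderOf x = p * orderOf g) (f : G → A) (hf0 : f ≠ 0)
    (hf : ∀ h : G, bad (orderOf h) → ∀ x, cosetSum f h x = 0) (N : ℕ) :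
    ∃ (X : Type) (_ : Group X) (_ : Fintype X), N < Fintype.card X ∧ SamePG G X := by
  classical
  have hm : f ∈ coverSub G A fun n => if bad n then 1 else p := by
    intro h x
    by_cases hb : bad (orderOf h)
    · simp only [hf h hb, smul_zero]
    · simp only [hb, if_false, hA]
  obtain ⟨L, _, _, h1, h2⟩ := cover_large hm hf0 N
  have := cover_finite G A fun n => if bad n then 1 else p
  refine ⟨L, inferInstance, inferInstance, h1, (samePG_cover p hp hA hpG _ ?_).trans
    (samePG_of_range_eq h2.symm)⟩
  intro g h3 h4 h5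
  exact hedge g h3 h4 fun hb => h5 (if_pos hb)

end CfsgLib.Recog
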