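import Mathlib
import Cfsg.Agent.Lib.OrthE.Embed
import Cfsg.Agent.Lib.Orth.Sum
import Cfsg.Agent.Lib.Classical.SL2Torus

/-!
Cyclic tori in orthogonal groups of even dimension and orthogonal sums of standard forms.
-/

set_option autoImplicit false

namespace CfsgLib.Recog

open QuadraticMap Module CfsgLib.OrthE Pointwise

variable {F V W : Type*} [Field F] [AddCommGroup V] [Module F V] [AddCommGroup W] [Module F W]
  {Q : QuadraticForm F V} {R : QuadraticForm F W}

/-- The orthogonal group of `Q` has an element of order `T`. -/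
def Blk (Q : QuadraticForm F V) (T : ℕ) : Prop := ∃ s : O Q, orderOf s = T

theorem equivalent_of (e : V ≃ₗ[F] W) (he : ∀ x, R (e x) = Q x) : Q.Equivalent R :=
  ⟨⟨e, he⟩⟩

theorem Blk.congr {T : ℕ} (h : Blk Q T) (e : Q.Equivalent R) : Blk R T := by
  obtain ⟨s, hs⟩ := h
  obtain ⟨e⟩ := e
  exact ⟨OCongr e.toLinearEquiv e.map_app s, by rw [MulEquiv.orderOf_eq, hs]⟩

variable (Q R) in
/-- Block-diagonal isometries. -/
def prodO : O Q × O R →* O (Q.prod R) where
  toFun g := ⟨g.1.1.prodCongr g.2.1, fun x => by simp [O_map]⟩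
  map_one' := rfl
  map_mul' _ _ := rfl

theorem prodO_apply (g : O Q) (h : O R) (x : V × W) :
    (prodO Q R (g, h)).1 x = (g.1 x.1, h.1 x.2) := rfl

theorem prodO_injective : Function.Injective (prodO Q R) := by
  rintro ⟨g, h⟩ ⟨g', h'⟩ H
  exact Prod.ext (O_ext fun x => congrArg (fun k : O (Q.prod R) => (k.1 (x, 0)).1) H)
    (O_ext fun x => congrArg (fun k : O (Q.prod R) => (k.1 (0, x)).2) H)

theorem Blk.prod {T T' : ℕ} (h : Blk Q T) (h' : Blk R T') (hc : T.Coprime T') :
    Blk (Q.prod R) (T * T') := by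
  obtain ⟨s, hs⟩ := h
  obtain ⟨s', hs'⟩ := h'
  exact ⟨prodO Q R (s, s'), by
    rw [orderOf_injective _ prodO_injective, Prod.orderOf_mk, hs, hs', hc.lcm_eq_mul]⟩

theorem nondeg_prod (hQ : Nondeg Q) (hR : Nondeg R) : Nondeg (Q.prod R) := fun x hx =>
  Prod.ext (hQ _ fun y => by simpa [polar_prod] using hx (y, 0))
    (hR _ fun y => by simpa [polar_prod] using hx (0, y))

theorem equiv_plus_minus (m k : ℕ) (a b : F) :
    ((qPlus F m).prod (qMinus F k a b)).Equivalent (qMinus F (m + k) a b) := by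
  let E : (Fin m ⊕ Fin m) ⊕ ((Fin k ⊕ Fin k) ⊕ Fin 2) ≃ (Fin (m + k) ⊕ Fin (m + k)) ⊕ Fin 2 :=
    (Equiv.sumAssoc _ _ _).symm.trans (Equiv.sumCongr ((Equiv.sumSumSumComm _ _ _ _).trans
      (finSumFinEquiv.sumCongr finSumFinEquiv)) (Equiv.refl _))
  refine (equivalent_of ((LinearEquiv.funCongrLeft F F E).trans
    (LinearEquiv.sumArrowLequivProdArrow _ _ F F)) fun x => ?_).symm
  simp [qPlus_apply, qMinus_apply, Fin.sum_univ_add, E, add_assoc]

theorem equiv_split (k : ℕ) : (qPlus F (k + 1)).Equivalent (qMinus F k 1 0) := by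
  obtain ⟨M, h1, h2⟩ := exists_ts_qMinus_of_root (F := F) k (a := 1) (b := 0) (z := 0) (by simp)
  have h3 : Nondeg (qMinus F k 1 0) := fun x hx => by
    have h0 := hx (Pi.single (.inr 0) 1)
    have h1 := hx (Pi.single (.inr 1) 1)
    rw [polar_qMinus_zero] at h0
    rw [polar_qMinus_one] at h1
    ext ((i | i) | i)
    · exact (polar_qMinus_inr k 1 0 x i).symm.trans (hx _)
    · exact (polar_qMinus_inl k 1 0 x i).symm.trans (hx _)
    · fin_cases i
      · simpa using h1
      · simp only [mul_zero, zero_mul, add_zero, one_mul] at h1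
        simpa [h1] using h0
  obtain ⟨e, he⟩ := exists_equiv_qPlus h3 (by simp; ring) h1 h2
  exact equivalent_of e he

variable [Fintype F]

theorem blk_plus (d : ℕ) : Blk (qPlus F (d + 1)) (Fintype.card F ^ (d + 1) - 1) := by
  obtain ⟨g, hg, -⟩ := CfsgLib.Classical.gl_exists_singer (F := F) (d + 1) (by omega)
  have h : Function.Injective (Orth.levi (d + 1) F) := fun A B H => by
    refine Units.ext (Matrix.ext fun i j => ?_)
    have := congrArg (fun k : Orth.OG (Orth.qPlus (d + 1) F) => k.1 (Pi.single (.inl j) 1) (.inl i)) H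
    simpa [Orth.levi_apply] using this
  exact Blk.congr (Q := Orth.qPlus (d + 1) F) ⟨Orth.levi _ F g, (orderOf_injective _ h g).trans hg⟩
    (equivalent_of (LinearEquiv.refl _ _) fun x => qPlus_apply _ _)

theorem blk_minus [CharP F 2] (d : ℕ) {a b : F}
    (hab : ∀ z₁ z₂ : F, z₁ ^ 2 + a * z₁ * z₂ + b * z₂ ^ 2 = 0 → z₁ = 0 ∧ z₂ = 0) :
    Blk (qMinus F d a b) (Fintype.card F ^ (d + 1) + 1) := by
  let K := FiniteField.Extension F 2 (2 * (d + 1))
  have hK : finrank F K = 2 * (d + 1) := FiniteField.finrank_extension F 2 _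
  have : CharP K 2 := charP_of_injective_algebraMap (algebraMap F K).injective 2
  set q := Fintype.card F with hq
  have hq1 : 1 < q := Fintype.one_lt_card
  set r := q ^ (d + 1) with hr
  have hr1 : 1 < r := Nat.one_lt_pow (by omega) hq1
  have hKc : Nat.card K = r * r := by
    rw [FiniteField.natCard_extension, Nat.card_eq_fintype_card, two_mul, pow_add]
  let σ : K ≃ₐ[F] K := FiniteField.Extension.frob F 2 (2 * (d + 1)) ^ (d + 1)
  have hσ : ∀ x, σ x = x ^ r := fun x => by
    rw [hr, hq, ← Nat.card_eq_fintype_card]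
    exact FiniteField.Extension.frob_iterate_apply F 2 _ _
  have hσσ : ∀ x, σ (σ x) = x := fun x => by
    let := Fintype.ofFinite K
    rw [hσ, hσ, ← pow_mul, ← hKc, Nat.card_eq_fintype_card, FiniteField.pow_card]
  obtain ⟨z, hz⟩ := IsCyclic.exists_ofOrder_eq_natCard (α := Kˣ)
  rw [Nat.card_units, hKc, show r * r - 1 = (r - 1) * (r + 1) by
    rw [mul_comm (r - 1), ← Nat.sq_sub_sq r 1, pow_two, one_pow]] at hz
  obtain ⟨u, hu⟩ : ∃ u : Kˣ, orderOf u = r + 1 :=
    ⟨z ^ (r - 1), by rw [orderOf_pow_of_dvd (by omega) (by simp [hz]), hz,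
      Nat.mul_div_cancel_left _ (by omega)]⟩
  have h1 : (u : K) * σ u = 1 := by
    rw [hσ, ← pow_succ', ← hu, ← Units.val_pow_eq_pow_val, pow_orderOf_eq_one, Units.val_one]
  have h2 : (u : K) + σ u ≠ 0 := fun h => by
    have h3 : (u : K) = 1 := by
      have : ((u : K) + 1) ^ 2 = 0 := by
        linear_combination (u : K) * h - h1 + (u : K) * (CharTwo.two_eq_zero : (2 : K) = 0)
      rw [pow_eq_zero_iff two_ne_zero, CharTwo.add_eq_zero] at this
      exact this
    rw [Units.val_eq_one.1 h3, orderOf_one] at hu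
    omega
  let B : LinearMap.BilinForm F K := LinearMap.mk₂ F (fun x y => Algebra.trace F K (u * x * σ y))
    (fun x x' y => by simp [mul_add, add_mul]) (fun c x y => by simp)
    (fun x y y' => by simp [mul_add]) (fun c x y => by simp)
  let Q : QuadraticForm F K := B.toQuadraticMap
  have hQ : ∀ x, Q x = Algebra.trace F K (u * x * σ x) := fun _ => rfl
  have hN : Nondeg Q := fun x hx => by
    have h4 := (traceForm_nondegenerate F K).1 ((u + σ u) * x) fun y => by
      have h5 := hx (σ y)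
      rw [LinearMap.BilinMap.polar_toQuadraticMap] at h5
      change Algebra.trace F K (u * x * σ (σ y)) + Algebra.trace F K (u * σ y * σ x) = 0 at h5
      rw [← Algebra.trace_eq_of_algEquiv σ (u * σ y * σ x), map_mul σ, map_mul σ, hσσ, hσσ,
        ← map_add] at h5
      rw [Algebra.traceForm_apply, ← h5]
      congr 1; ring
    exact (mul_eq_zero.1 h4).resolve_left h2
  have hQu : ∀ x, Q (u * x) = Q x := fun x => by
    rw [hQ, hQ, map_mul σ]; congr 1; linear_combination (u * x * σ x : K) * h1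
  let φ : Kˣ →* (K ≃ₗ[F] K) := DistribMulAction.toModuleAut F K
  have hφ : Function.Injective φ := fun v w h => Units.ext (by
    simpa [φ, Units.smul_def] using congrArg (fun k : K ≃ₗ[F] K => k 1) h)
  have hb : Blk Q (r + 1) := ⟨⟨φ u, hQu⟩, by
    rw [← Subgroup.orderOf_coe, orderOf_injective φ hφ, hu]⟩
  rcases exists_equiv_or hN hK hab with ⟨e, he⟩ | ⟨e, he⟩
  · exfalso
    have h4 := card_zeros_qPlus (F := F) d
    rw [card_level_congr e he, Nat.card_eq_fintype_card (α := F), ← hq] at h4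
    let Z : Set Kˣ := {v | Q v = 0}
    have h5 : Z * (Subgroup.zpowers u : Set Kˣ) = Z := by
      refine Set.Subset.antisymm ?_ (Set.subset_mul_left _ (Subgroup.one_mem _))
      rintro _ ⟨v, hv, w, hw, rfl⟩
      obtain ⟨n, rfl⟩ := mem_powers_iff_mem_zpowers.2 hw
      induction n with
      | zero => simpa using hv
      | succ n ih =>
        change Q (v * u ^ (n + 1) : Kˣ) = 0
        rw [pow_succ, ← mul_assoc, mul_comm _ u, Units.val_mul, hQu]
        exact ih (Subgroup.npow_mem_zpowers _ _)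
    have h6 := Subgroup.card_mul_eq_card_subgroup_mul_card_quotient (Subgroup.zpowers u) Z
    rw [h5, Nat.card_zpowers, hu] at h6
    have h7 : Nat.card {v // Q v = 0} = Nat.card Z + 1 := by
      have : {v | Q v = 0} = insert 0 (Units.val '' Z) := by
        ext v
        by_cases hv : v = 0
        · simp [hv]
        · simp only [Set.mem_ofPred_eq, Set.mem_insert_iff, hv, false_or, Set.mem_image, Z]
          exact ⟨fun h => ⟨Units.mk0 v hv, h, rfl⟩, by rintro ⟨w, hw, rfl⟩; exact hw⟩
      change Nat.card ({v | Q v = 0} : Set K) = _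
      rw [this, Nat.card_coe_set_eq, Set.ncard_insert_of_notMem (by simp),
        Set.ncard_image_of_injective _ Units.val_injective, Nat.card_coe_set_eq]
    have h8 : ((r : ℤ) + 1) ∣ ((r : ℤ) - 1) * (q ^ d + 1) := by
      refine ⟨Nat.card (Set.image (fun x : Kˣ => (x : Kˣ ⧸ Subgroup.zpowers u)) Z), ?_⟩
      rw [h7, h6] at h4
      push_cast at h4
      rw [hr]; push_cast
      rw [hr] at h4; push_cast at h4
      linear_combination -h4
    have h9 : Even (r : ℤ) := by
      rw [hr]; push_cast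
      exact (Int.even_coe_nat _).2 (FiniteField.even_card_of_char_two (ringChar.eq F 2)
        |> Nat.even_iff.2) |>.pow_of_ne_zero (by omega)
    obtain ⟨t, ht⟩ := h9
    have h10 : IsCoprime ((r : ℤ) + 1) ((r : ℤ) - 1) :=
      ⟨1 - t, t, by rw [ht]; ring⟩
    have h11 := Int.le_of_dvd (by positivity) (h10.dvd_of_dvd_mul_left h8)
    have h12 : (q : ℤ) ^ d < q ^ (d + 1) := pow_lt_pow_right₀ (by exact_mod_cast hq1) (by omega)
    rw [hr] at h11; push_cast at h11
    omega
  · exact hb.congr (equivalent_of e he).symm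

end CfsgLib.Recog
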