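import Mathlib
import Cfsg.Agent.Lib.OrthE.Basic
import Cfsg.Agent.Lib.Orth.Omega
import Cfsg.Agent.Lib.Recog.SpecCover
import Cfsg.Agent.Lib.Recog.PrimeGraphCover

/-!
Elements of orders `2 T`, `4 T`, `8 T` in orthogonal groups of characteristic two and in the
affine groups `V ⋊ Ω(V)`.
-/

set_option autoImplicit false

namespace CfsgLib.Recog

open QuadraticMap Module CfsgLib.OrthE Finset

variable {F V : Type*} [Field F] [AddCommGroup V] [Module F V] {Q : QuadraticForm F V}

theorem commute_refl {s : O Q} {z : V} (h : s.1 z = z) : Commute s (refl Q z) := by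
  have := conj_refl s z
  rw [h, mul_inv_eq_iff_eq_mul] at this
  exact this

theorem commute_eich {s : O Q} {e w : V} (h : s.1 e = e) (h' : s.1 w = w) :
    Commute s (eich Q e w) := by
  have := conj_eich s e w
  rw [h, h', mul_inv_eq_iff_eq_mul] at this
  exact this

theorem sq_eich_mul {g : O Q} {e v : V} (hg : g.1 e = e) (he : Q e = 0) (hv : polar Q e v = 0) :
    (eich Q e v * g) ^ 2 = eich Q e (v + g.1 v) * g ^ 2 := by
  have h1 := conj_eich g e v
  rw [hg] at h1
  rw [← eich_mul he hv (by rw [← hg, O_polar, hv]), ← h1]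
  simp only [pow_two, mul_assoc, inv_mul_cancel_left]

theorem polar_eich {e y f t : V} (he : Q e = 0) (hy : polar Q e y = 0) (hf : polar Q f e = 1)
    (ht : polar Q e t = 0) : polar Q ((eich Q e y).1 f) t = polar Q f t - polar Q y t := by
  simp [eich_apply he hy, hf, ht]

theorem eich_ne_one {e y f t : V} (he : Q e = 0) (hy : polar Q e y = 0) (hf : polar Q f e = 1)
    (ht : polar Q e t = 0) (h : polar Q y t ≠ 0) : eich Q e y ≠ 1 := by
  intro h1
  have := polar_eich he hy hf ht
  rw [h1, O_one_apply] at this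
  exact h (by linear_combination this)

theorem orderOf_mul_of_odd {G : Type*} [Group G] {s u : G} (h : Commute s u) {T k : ℕ}
    (hs : orderOf s = T) (hT : Odd T) (h1 : u ^ 2 ^ (k + 1) = 1) (h2 : u ^ 2 ^ k ≠ 1) :
    2 ^ (k + 1) * T ∈ Set.range (orderOf : G → ℕ) := by
  have h3 := orderOf_eq_prime_pow h2 h1
  refine ⟨s * u, ?_⟩
  rw [h.orderOf_mul_eq_mul_orderOf_of_coprime, hs, h3, mul_comm]
  rw [hs, h3]
  exact (Nat.coprime_two_right.2 hT).pow_right _

/-- The natural representation of a subgroup of the orthogonal group. -/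
def natRep (Ω : Subgroup (O Q)) : Representation F Ω V :=
  LinearEquiv.automorphismGroup.toLinearMapMonoidHom.comp ((O Q).subtype.comp Ω.subtype)

/-- The affine group. -/
abbrev AffO (Ω : Subgroup (O Q)) : Type _ := Multiplicative V ⋊[repMulAut (natRep Ω)] Ω

theorem affO_pow {Ω : Subgroup (O Q)} (x : AffO Ω) (n : ℕ) :
    x ^ n = ⟨Multiplicative.ofAdd (∑ j ∈ range n, ((x.right : O Q) ^ j).1 x.left.toAdd),
      x.right ^ n⟩ := by
  rw [semidirect_pow, ofAdd_sum]
  rfl

theorem add_self_vec (F : Type*) [Field F] [Module F V] [CharP F 2] (v : V) : v + v = 0 := by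
  rw [← two_smul F v, CharTwo.two_eq_zero, zero_smul]

variable [CharP F 2]

theorem eich_sq (e v : V) : eich Q e v ^ 2 = 1 := by
  by_cases h : Q e = 0 ∧ polar Q e v = 0
  · rw [pow_two, eich_mul h.1 h.2 h.2, add_self_vec F, eich_zero_right]
  · rw [eich_of_not h, one_pow]

theorem mem_affO {Ω : Subgroup (O Q)} {s u : O Q} (hsΩ : s ∈ Ω) (huΩ : u ∈ Ω) (h : Commute s u)
    {T k : ℕ} (hs : orderOf s = T) (hT : Odd T) {v : V} (hv : s.1 v = v) (h1 : u ^ 2 ^ k = 1)
    (h2 : ∑ j ∈ range (2 ^ k), (u ^ j).1 v ≠ 0) :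
    2 ^ (k + 1) * T ∈ Set.range (orderOf : AffO Ω → ℕ) := by
  have h3 : (⟨Multiplicative.ofAdd v, ⟨u, huΩ⟩⟩ : AffO Ω) ^ 2 ^ k =
      SemidirectProduct.inl (Multiplicative.ofAdd (∑ j ∈ range (2 ^ k), (u ^ j).1 v)) := by
    rw [affO_pow]
    exact SemidirectProduct.ext rfl (Subtype.ext h1)
  apply orderOf_mul_of_odd (s := SemidirectProduct.inr ⟨s, hsΩ⟩)
    (u := ⟨Multiplicative.ofAdd v, ⟨u, huΩ⟩⟩) _ _ hT
  · rw [pow_succ, pow_mul, h3, ← map_pow, pow_two, ← ofAdd_add, add_self_vec F, ofAdd_zero, map_one]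
  · rw [h3]
    exact fun h4 => h2 (congrArg (fun x : AffO Ω => x.left.toAdd) h4)
  · refine SemidirectProduct.ext ?_ (Subtype.ext h.eq)
    simp only [SemidirectProduct.mul_left, SemidirectProduct.left_inr, SemidirectProduct.right_inr,
      map_one, one_mul, mul_one]
    exact congrArg Multiplicative.ofAdd hv
  · rw [orderOf_injective _ SemidirectProduct.inr_injective, ← hs]
    exact (Subgroup.orderOf_coe (⟨s, hsΩ⟩ : Ω)).symm

/-- Both spectra contain `n`. -/
def Both (Ω : Subgroup (O Q)) (n : ℕ) : Prop :=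
  n ∈ Set.range (orderOf : O Q → ℕ) ∧ n ∈ Set.range (orderOf : AffO Ω → ℕ)

section

variable {Ω : Subgroup (O Q)} {s : O Q} (hsΩ : s ∈ Ω) {T : ℕ} (hs : orderOf s = T) (hT : Odd T)
include hsΩ hs

omit [CharP F 2] in
theorem both_one : Both Ω T :=
  ⟨⟨s, hs⟩, ⟨SemidirectProduct.inr ⟨s, hsΩ⟩, by
    rw [orderOf_injective _ SemidirectProduct.inr_injective, ← hs]
    exact (Subgroup.orderOf_coe (⟨s, hsΩ⟩ : Ω)).symm⟩⟩

include hT

theorem both_two {z w : V} (hz : Q z = 1) (hw : polar Q w z ≠ 0) (sz : s.1 z = z) :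
    Both Ω (2 * T) := by
  have hz0 : z ≠ 0 := by rintro rfl; simp at hw
  refine ⟨orderOf_mul_of_odd (k := 0) (commute_refl sz) hs hT (by simp [pow_two, refl_mul_self]) ?_,
    mem_affO (k := 0) hsΩ Ω.one_mem (Commute.one_right _) hs hT sz (one_pow _) (by simpa using hz0)⟩
  intro h
  have h1 := refl_apply (Q := Q) z w
  rw [pow_zero, pow_one] at h
  rw [h, O_one_apply, hz, eq_comm, sub_eq_self, smul_eq_zero] at h1
  simp [hw, hz0] at h1

omit hsΩ hs hT in
theorem sq_four {e z w : V} (he : Q e = 0) (hz : Q z = 1) (ez : polar Q e z = 0)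
    (ew : polar Q e w = 0) : (eich Q e w * refl Q z) ^ 2 = eich Q e (polar Q w z • z) := by
  have h2 : (2 : F) = 0 := CharTwo.two_eq_zero
  rw [sq_eich_mul (refl_apply_of_orth ez) he ew, pow_two, refl_mul_self, mul_one, refl_apply, hz]
  congr 1
  linear_combination (norm := module) h2 • (w - polar Q w z • z)

theorem both_four {e f z w : V} (he : Q e = 0) (hz : Q z = 1) (hw : polar Q w z ≠ 0)
    (fe : polar Q f e = 1) (ez : polar Q e z = 0) (ew : polar Q e w = 0) (se : s.1 e = e)
    (sf : s.1 f = f) (sz : s.1 z = z) (sw : s.1 w = w) (hΩ : eich Q e z ∈ Ω) : Both Ω (4 * T) := by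
  have h2 : (2 : F) = 0 := CharTwo.two_eq_zero
  refine ⟨orderOf_mul_of_odd (k := 1) ((commute_eich se sw).mul_right (commute_refl sz)) hs hT ?_ ?_,
    mem_affO (k := 1) hsΩ hΩ (commute_eich se sz) hs hT sf (eich_sq _ _) fun h => ?_⟩
  · rw [pow_succ, pow_mul, pow_one, sq_four he hz ez ew, eich_sq]
  · rw [pow_one, sq_four he hz ez ew]
    exact eich_ne_one he (by simp [ez]) fe ew (by simpa [polar_comm Q z w] using hw)
  · have h1 := congrArg (fun v => polar Q v w) h
    simp only [pow_one, sum_range_succ, range_zero, sum_empty, zero_add, pow_zero, O_one_apply,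
      polar_add_left, polar_eich he ez fe ew, polar_zero_left, polar_comm Q z w] at h1
    exact hw (by linear_combination (polar Q f w) * h2 - h1)

theorem both_eight {e f e' f' z w : V} (he : Q e = 0) (he' : Q e' = 0) (hz : Q z = 1)
    (hw : polar Q w z ≠ 0) (fe : polar Q f e = 1) (fe' : polar Q f' e' = 1) (ez : polar Q e z = 0)
    (ew : polar Q e w = 0) (fz : polar Q f z = 0) (fw : polar Q f w = 0) (ee' : polar Q e' e = 0)
    (ef' : polar Q e' f = 0) (ez' : polar Q e' z = 0) (ew' : polar Q e' w = 0)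
    (fe'' : polar Q f' e = 0) (fz' : polar Q f' z = 0)
    (se : s.1 e = e) (sf : s.1 f = f) (se' : s.1 e' = e') (sf' : s.1 f' = f') (sz : s.1 z = z)
    (sw : s.1 w = w) (hΩ : eich Q e z ∈ Ω) (hΩ' : eich Q e' (e + f) ∈ Ω) : Both Ω (8 * T) := by
  have h2 : (2 : F) = 0 := CharTwo.two_eq_zero
  have ee : polar Q e e = 0 := by rw [polar_self', he, mul_zero]
  have zz : polar Q z z = 0 := by rw [polar_self', h2, zero_mul]
  have ef : polar Q e f = 1 := by rw [polar_comm, fe]
  have ze : polar Q z e = 0 := by rw [polar_comm, ez]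
  have zf : polar Q z f = 0 := by rw [polar_comm, fz]
  have we : polar Q w e = 0 := by rw [polar_comm, ew]
  have k1 : polar Q e' (e + f) = 0 := by simp [ee', ef']
  constructor
  · have a1 : (eich Q e w * refl Q z).1 e' = e' := by
      rw [O_mul_apply, refl_apply_of_orth ez', eich_apply_of_orth ee' ew']
    have a2 : f + (eich Q e w * refl Q z).1 f = w + Q w • e := by
      rw [O_mul_apply, refl_apply_of_orth fz, eich_apply he ew, fw, fe]
      linear_combination (norm := module) h2 • (f - w - Q w • e)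
    have a3 : (eich Q e' f * (eich Q e w * refl Q z)) ^ 2 ^ 2 =
        eich Q e' ((polar Q w z * polar Q w z) • e) := by
      rw [pow_two, pow_mul, sq_eich_mul a1 he' ef', a2, sq_four he hz ez ew,
        sq_eich_mul (eich_apply_of_orth (u := e) ee' (by simp [ez'])) he' (by simp [ee', ew']), eich_sq,
        mul_one, eich_apply_of_orth_left he (by simp [ez]) (by simp [we, ee])]
      congr 1
      simp only [polar_add_left, polar_smul_left, polar_smul_right, ez, smul_eq_mul, mul_zero,
        add_zero]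
      linear_combination (norm := module) h2 • (w + Q w • e)
    refine orderOf_mul_of_odd (k := 2) ((commute_eich se' sf).mul_right
      ((commute_eich se sw).mul_right (commute_refl sz))) hs hT ?_ ?_
    · rw [pow_succ, pow_mul, a3, eich_sq]
    · rw [a3]
      exact eich_ne_one he' (by simp [ee']) fe' ef' (by simpa [ef] using hw)
  · have a1 : (eich Q e' (e + f) * eich Q e z) ^ 2 = eich Q e' (e + z) := by
      rw [sq_eich_mul (eich_apply_of_orth ee' ez') he' k1, eich_sq, mul_one, eich_apply he ez]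
      congr 1
      simp only [polar_add_left, ez, fz, ee, fe, hz]
      linear_combination (norm := module) h2 • (f - z)
    refine mem_affO (k := 2) hsΩ (Ω.mul_mem hΩ' hΩ) ((commute_eich se' (by simp [se, sf])).mul_right
      (commute_eich se sz)) hs hT sf' (by rw [pow_two, pow_mul, a1, eich_sq]) fun h => ?_
    set u := eich Q e' (e + f) * eich Q e z with hu
    have a2 : f' + (u ^ 2).1 f' = e + z + e' := by
      rw [a1, eich_apply he' (by simp [ee', ez']), fe', Q_add, he, hz, ez]
      simp only [polar_add_right, fe'', fz']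
      linear_combination (norm := module) h2 • (f' - e - z - e')
    have a3 : u.1 (e + z + e') = e + z + e' + e' := by
      have e'e' : polar Q e' e' = 0 := by rw [polar_self', he', mul_zero]
      rw [hu, O_mul_apply, eich_apply_of_orth (u := e) (v := z) (by simp [ee, ze, ee'])
        (by simp [ez, zz, ez']),
        eich_apply_of_orth_left he' k1 (by simp [polar_comm Q e e', polar_comm Q z e', ee', ez', e'e'])]
      simp [ee, ze, ee', ef, zf, ef']
    have a4 : ∑ j ∈ range (2 ^ 2), (u ^ j).1 f' = (f' + (u ^ 2).1 f') + u.1 (f' + (u ^ 2).1 f') := by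
      simp only [show 2 ^ 2 = 4 from rfl, sum_range_succ, range_zero, sum_empty, zero_add, pow_zero,
        O_one_apply, pow_one, map_add, ← O_mul_apply, ← pow_succ']
      abel
    rw [a4, a2, a3, ← add_assoc, add_self_vec F, zero_add] at h
    rw [h] at fe'
    simp at fe'

end

end CfsgLib.Recog
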