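import Mathlib
import Cfsg.Agent.Lib.Spec.Adj

/-!
An upper bound for the element orders of `Sp(8, q)`, `q` even.
-/

set_option autoImplicit false

namespace CfsgLib.Recog

open CfsgLib.Spec

/-- The cyclotomic factors of `q ^ d ± 1`, `d ≤ 4`. -/
def sp8Atom (q : ℕ) : Fin 6 → ℕ := ![q - 1, q + 1, q ^ 2 + 1, q ^ 2 + q + 1, q ^ 2 - q + 1, q ^ 4 + 1]

/-- The factors of `q ^ d - 1` and `q ^ d + 1`. -/
def sp8Mask (d : ℕ) (ε : Bool) : Finset (Fin 6) :=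
  match d, ε with
  | 1, false => {0}
  | 1, true => {1}
  | 2, false => {0, 1}
  | 2, true => {2}
  | 3, false => {0, 3}
  | 3, true => {1, 4}
  | 4, false => {0, 1, 2}
  | _, _ => {5}

/-- Maximal multiplicities and exponents of eigenvalue multisets. -/
def sp8List (n : ℕ) : List (ℕ × Finset (Fin 6)) :=
  match n with
  | 0 => [(0, ∅)]
  | 1 => [(2, ∅), (1, {0}), (1, {1})]
  | 2 => [(4, ∅), (2, {0}), (2, {1}), (1, {0, 1}), (1, {2})]
  | 3 => [(6, ∅), (4, {0}), (4, {1}), (2, {0, 1}), (2, {2}), (1, {0, 2}), (1, {1, 2}), (1, {0, 3}),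
      (1, {1, 4})]
  | _ => [(8, {0}), (8, {1}), (4, {0, 1}), (4, {2}), (2, {0, 2}), (2, {1, 2}), (2, {0, 3}),
      (2, {1, 4}), (1, {0, 1, 2}), (1, {0, 1, 4}), (1, {0, 1, 3}), (1, {5})]

theorem sp8List_step : ∀ n ≤ 4, ∀ m ≤ n, ∀ d ≤ n, ∀ c ≤ n, n = c * d + m → 0 < c → 0 < d →
    ∀ ε : Bool, ∀ x ∈ sp8List m, ∃ y ∈ sp8List n, c ≤ y.1 ∧ x.1 ≤ y.1 ∧ x.2 ⊆ y.2 ∧
      sp8Mask d ε ⊆ y.2 := by
  intro n hn m hm d hd c hc h h1 h2
  have h3 := Nat.le_mul_of_pos_left d h1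
  have h4 := Nat.le_mul_of_pos_right c h2
  interval_cases n <;> interval_cases d <;> interval_cases c <;>
    first | omega | (obtain rfl : m = _ := (Nat.sub_eq_of_eq_add' h).symm; decide +kernel)

theorem sp8List_one : ∀ n ≤ 4, ∃ y ∈ sp8List n, 2 * n ≤ y.1 := by decide +kernel

theorem prod_sp8Mask {q : ℕ} (hq : 1 ≤ q) {d : ℕ} (h0 : 0 < d) (h4 : d ≤ 4) :
    ∏ i ∈ sp8Mask d false, sp8Atom q i = q ^ d - 1 ∧ ∏ i ∈ sp8Mask d true, sp8Atom q i = q ^ d + 1 := by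
  obtain ⟨s, rfl⟩ := Nat.exists_eq_add_of_le' hq
  have h1 : (s + 1) ^ 2 - (s + 1) = s ^ 2 + s := Nat.sub_eq_of_eq_add (by ring)
  interval_cases d <;> refine ⟨(Nat.sub_eq_of_eq_add ?_).symm, ?_⟩ <;>
    simp [sp8Mask, sp8Atom, h1] <;> ring

variable {K : Type*} [Field K] [DecidableEq K]

theorem sp8_bound [CharP K 2] {q : ℕ} (hq : 1 ≤ q) (hφ : Function.Injective fun x : K => x ^ q) :
    ∀ n ≤ 4, ∀ S : Multiset K, SpSet q n S → ∃ y ∈ sp8List n, (∀ α, S.count α ≤ y.1) ∧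
      ∀ x ∈ S, x ^ (∏ i ∈ y.2, sp8Atom q i) = 1 := by
  intro n
  induction n using Nat.strong_induction_on with
  | _ n ih =>
  intro hn S hS
  by_cases h1 : ∀ a ∈ S, a = 1
  · obtain ⟨y, hy, h2⟩ := sp8List_one n hn
    refine ⟨y, hy, fun α => ((Multiset.count_le_card _ _).trans hS.1.le).trans h2, fun x hx => ?_⟩
    rw [h1 x hx, one_pow]
  push Not at h1
  obtain ⟨a, ha, ha1⟩ := h1
  have ha0 := hS.ne_zero ha
  have ha' : a⁻¹ ≠ a := fun h => ha1 (by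
    have h2 : a * a = 1 := by
      conv_lhs => rhs; rw [← h]
      exact mul_inv_cancel₀ ha0
    rcases mul_self_eq_one_iff.1 h2 with h | h
    · exact h
    · rw [h, CharTwo.neg_eq])
  obtain ⟨d, hd⟩ := exists_isEta hφ a
  have hd0 := hd.pos hφ hS.2.1 ha
  obtain ⟨R, m, e1, e2, e3, e4⟩ := hS.split hφ ha ha' hd
  have hc := Multiset.count_pos.2 ha
  have h2 := Nat.le_mul_of_pos_left d hc
  have h3 := Nat.le_mul_of_pos_right (S.count a) hd0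
  obtain ⟨x, hx, h4, h5⟩ := ih m (by omega) (by omega) R e2
  obtain ⟨ε, hε⟩ : ∃ ε, a ^ (∏ i ∈ sp8Mask d ε, sp8Atom q i) = 1 := by
    have h6 := prod_sp8Mask hq hd0 (by omega)
    rcases pow_eq_one_of_eta (by omega) ha0 hd.self with h | h
    · exact ⟨false, h6.1 ▸ h⟩
    · exact ⟨true, h6.2 ▸ h⟩
  obtain ⟨y, hy, h6, h7, h8, h9⟩ := sp8List_step n hn m (by omega) d (by omega) _ (by omega) e3 hc hd0
    ε x hx
  refine ⟨y, hy, fun α => ?_, fun b hb => ?_⟩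
  · by_cases h : α ∈ ocyc q a d
    · rwa [count_eq_of_mem_ocyc hS.2.1 hS.2.2.1 h]
    · rw [e1, Multiset.count_add, Multiset.count_nsmul, Multiset.count_eq_zero_of_notMem h, mul_zero,
        zero_add]
      exact (h4 α).trans h7
  · rw [e1, Multiset.mem_add] at hb
    rw [← orderOf_dvd_iff_pow_eq_one]
    rcases hb with hb | hb
    · exact (orderOf_dvd_of_pow_eq_one (orderOf_dvd_of_mem_ocyc (Multiset.mem_of_mem_nsmul hb) hε)).trans
        (Finset.prod_dvd_prod_of_subset _ _ _ h9)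
    · exact (orderOf_dvd_of_pow_eq_one (h5 b hb)).trans (Finset.prod_dvd_prod_of_subset _ _ _ h8)

/-- The element orders of `Sp(8, q)`, `q` even. -/
def omegaSp8 (q : ℕ) : Set ℕ :=
  {N | N ∣ 8 * (q - 1) ∨ N ∣ 8 * (q + 1) ∨ N ∣ 4 * (q ^ 2 - 1) ∨ N ∣ 4 * (q ^ 2 + 1) ∨
    N ∣ 2 * ((q - 1) * (q ^ 2 + 1)) ∨ N ∣ 2 * ((q + 1) * (q ^ 2 + 1)) ∨ N ∣ 2 * (q ^ 3 - 1) ∨
    N ∣ 2 * (q ^ 3 + 1) ∨ N ∣ (q ^ 2 - 1) * (q ^ 2 + 1) ∨ N ∣ (q - 1) * (q ^ 3 + 1) ∨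
    N ∣ (q ^ 3 - 1) * (q + 1) ∨ N ∣ q ^ 4 + 1}

theorem omegaSp_four_upper [CharP K 2] {q : ℕ} (hq : 1 ≤ q)
    (hφ : Function.Injective fun x : K => x ^ q) {N : ℕ} (hN : N ∈ omegaSp K 2 q 4) :
    N ∈ omegaSp8 q := by
  obtain ⟨S, hS, j, hj, hN⟩ := hN
  obtain ⟨y, hy, h1, h2⟩ := sp8_bound hq hφ 4 le_rfl S hS
  have key : ∀ k, y.1 ≤ 2 ^ k → N ∣ 2 ^ k * ∏ i ∈ y.2, sp8Atom q i := by
    intro k hk
    rw [hN]
    refine ⟨Dvd.dvd.mul_right (pow_dvd_pow 2 ?_) _, fun a ha b hb => ?_⟩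
    · rcases hj with h | ⟨α, h⟩
      · omega
      · have := (Nat.pow_lt_pow_iff_right one_lt_two).1 (h.trans_le ((h1 α).trans hk))
        omega
    · rw [mul_comm, pow_mul, pow_mul, h2 a ha, h2 b hb]
  have m2 := (prod_sp8Mask hq two_pos (by norm_num)).1
  have m3 := prod_sp8Mask hq three_pos (by norm_num)
  simp only [sp8Mask] at m2 m3
  simp only [sp8List, List.mem_cons, List.not_mem_nil, or_false] at hy
  simp only [omegaSp8, Set.mem_ofPred_eq]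
  rcases hy with rfl | rfl | rfl | rfl | rfl | rfl | rfl | rfl | rfl | rfl | rfl | rfl
  · exact Or.inl (by simpa [sp8Atom] using key 3 le_rfl)
  · exact Or.inr <| Or.inl (by simpa [sp8Atom] using key 3 le_rfl)
  · exact Or.inr <| Or.inr <| Or.inl (m2 ▸ key 2 le_rfl)
  · exact Or.inr <| Or.inr <| Or.inr <| Or.inl (by simpa [sp8Atom] using key 2 le_rfl)
  · exact Or.inr <| Or.inr <| Or.inr <| Or.inr <| Or.inl (by simpa [sp8Atom] using key 1 le_rfl)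
  · exact Or.inr <| Or.inr <| Or.inr <| Or.inr <| Or.inr <| Or.inl
      (by simpa [sp8Atom] using key 1 le_rfl)
  · exact Or.inr <| Or.inr <| Or.inr <| Or.inr <| Or.inr <| Or.inr <| Or.inl (m3.1 ▸ key 1 le_rfl)
  · exact Or.inr <| Or.inr <| Or.inr <| Or.inr <| Or.inr <| Or.inr <| Or.inr <| Or.inl
      (m3.2 ▸ key 1 le_rfl)
  · refine Or.inr <| Or.inr <| Or.inr <| Or.inr <| Or.inr <| Or.inr <| Or.inr <| Or.inr <| Or.inl ?_
    rw [← m2]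
    simpa [sp8Atom, mul_assoc] using key 0 le_rfl
  · refine Or.inr <| Or.inr <| Or.inr <| Or.inr <| Or.inr <| Or.inr <| Or.inr <| Or.inr <| Or.inr <|
      Or.inl ?_
    rw [← m3.2]
    simpa [sp8Atom, mul_assoc] using key 0 le_rfl
  · refine Or.inr <| Or.inr <| Or.inr <| Or.inr <| Or.inr <| Or.inr <| Or.inr <| Or.inr <| Or.inr <|
      Or.inr <| Or.inl ?_
    rw [← m3.1]
    simpa [sp8Atom, mul_assoc, mul_comm (q + 1)] using key 0 le_rfl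
  · exact Or.inr <| Or.inr <| Or.inr <| Or.inr <| Or.inr <| Or.inr <| Or.inr <| Or.inr <| Or.inr <|
      Or.inr <| Or.inr (by simpa [sp8Atom] using key 0 le_rfl)

end CfsgLib.Recog
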