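import Mathlib
import Cfsg.Agent.Lib.Recog.OUnip
import Cfsg.Agent.Lib.Recog.OTorus
import Cfsg.Agent.Lib.Recog.Sp8Upper

/-!
All element orders of `Sp(8, q)`, `q` even, occur in `O⁻(8, q)` and in `V ⋊ Ω⁻(8, q)`.
-/

set_option autoImplicit false

namespace CfsgLib.Recog

open QuadraticMap Module CfsgLib.OrthE

variable {F V : Type*} [Field F] [AddCommGroup V] [Module F V] [FiniteDimensional F V]
  {Q : QuadraticForm F V}

/-- The Dickson invariant. -/
noncomputable def dick (hQ : Nondeg Q) (h24 : Nat.card F ≠ 2 ∨ finrank F V ≠ 4) : O Q →* ℤˣ :=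
  Orth.dickson ((nondeg_iff Q).1 hQ) h24

section

variable (hQ : Nondeg Q) (h24 : Nat.card F ≠ 2 ∨ finrank F V ≠ 4)

theorem dick_refl {v : V} (hv : Q v ≠ 0) : dick hQ h24 (refl Q v) = -1 := by
  rw [show refl Q v = Orth.refl Q v from O_ext fun x => by
    rw [refl_apply, polar_comm]; exact (Orth.refl_apply v x).symm]
  exact Orth.dickson_refl _ h24 hv

theorem mem_ker_dick_of_odd {s : O Q} (hs : Odd (orderOf s)) : s ∈ (dick hQ h24).ker := by
  have h1 := congrArg (dick hQ h24) (pow_orderOf_eq_one s)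
  rw [map_pow, map_one] at h1
  rcases Int.units_eq_one_or (dick hQ h24 s) with h | h
  · exact h
  · rw [h, hs.neg_one_pow] at h1
    exact absurd h1 (by decide)

theorem eich_mem_ker_dick (u : V) {v : V} (hv : Q v ≠ 0) : eich Q u v ∈ (dick hQ h24).ker := by
  by_cases h : Q u = 0 ∧ polar Q u v = 0
  · rw [MonoidHom.mem_ker, eich_eq_refl_mul_refl h.1 h.2 hv, map_mul, dick_refl hQ h24 hv,
      dick_refl hQ h24 (by rwa [Q_sub, Q_smul, polar_smul_right, h.1, polar_comm, h.2, mul_zero,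
        smul_zero, add_zero, sub_zero])]
    decide
  · rw [eich_of_not h]; exact one_mem _

theorem even_of_mem_ker_dick {g : O Q} (hg : g ∈ (dick hQ h24).ker) :
    Even (finrank F (LinearMap.range ((g.1 : V →ₗ[F] V) - LinearMap.id))) :=
  (Orth.dickson_eq_one_iff _ h24 g).1 hg

end

variable [Fintype F] [CharP F 2] {a b : F}
  (hab : ∀ z₁ z₂ : F, z₁ ^ 2 + a * z₁ * z₂ + b * z₂ ^ 2 = 0 → z₁ = 0 ∧ z₂ = 0)
include hab

omit [CharP F 2] in
theorem nondeg_eight : Nondeg (qMinus F 3 a b) := nondeg_qMinus 3 hab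

omit hab [CharP F 2] [Fintype F] in
theorem h24_eight : Nat.card F ≠ 2 ∨ finrank F ((Fin 3 ⊕ Fin 3) ⊕ Fin 2 → F) ≠ 4 :=
  Or.inr (by simp)

/-- The group `Ω⁻(8, q)`. -/
noncomputable abbrev omega8 : Subgroup (O (qMinus F 3 a b)) := (dick (nondeg_eight hab) h24_eight).ker

theorem exists_frame (hQ : Nondeg Q) {d k : ℕ} (hd : finrank F V = 2 * (d + 1))
    (hk : d + 1 + k = 3) {T : ℕ} (h : Blk Q T) :
    ∃ (a' b' : F) (j : ((Fin k ⊕ Fin k) ⊕ Fin 2 → F) →ₗ[F] ((Fin 3 ⊕ Fin 3) ⊕ Fin 2 → F))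
      (s : O (qMinus F 3 a b)), a' ≠ 0 ∧ (∀ x, qMinus F 3 a b (j x) = qMinus F k a' b' x) ∧
      orderOf s = T ∧ ∀ x, s.1 (j x) = j x := by
  obtain ⟨a', b', ha', ⟨e⟩⟩ : ∃ a' b' : F, a' ≠ 0 ∧
      (Q.prod (qMinus F k a' b')).Equivalent (qMinus F 3 a b) := by
    rcases exists_equiv_or hQ hd hab with ⟨e, he⟩ | ⟨e, he⟩
    · refine ⟨a, b, fun h => disc_ne_zero hab ?_, ((equivalent_of e he).symm.prod
        (Equivalent.refl _)).trans (hk ▸ equiv_plus_minus _ _ a b)⟩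
      rw [h]
      linear_combination 2 * b * (CharTwo.two_eq_zero : (2 : F) = 0)
    · exact ⟨1, 0, one_ne_zero, ((equivalent_of e he).symm.prod (equiv_split k).symm).trans
        (Equivalent.trans ⟨IsometryEquiv.prodComm _ _⟩
        ((show k + 1 + d = 3 by omega) ▸ equiv_plus_minus _ _ a b))⟩
  obtain ⟨s, hs⟩ := h
  refine ⟨a', b', e.toLinearEquiv.toLinearMap.comp (LinearMap.inr F _ _),
    OCongr e.toLinearEquiv e.map_app (prodO _ _ (s, 1)), ha', fun x => ?_, ?_, fun x => ?_⟩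
  · simp
  · rw [MulEquiv.orderOf_eq, orderOf_injective _ prodO_injective, Prod.orderOf_mk, hs,
      orderOf_one, Nat.lcm_one_right]
  · simp [OCongr_apply, prodO_apply]

omit [CharP F 2] in
theorem both_of_blk_one {T : ℕ} (hT : Odd T) (h : Blk (qMinus F 3 a b) T) :
    Both (omega8 hab) T := by
  obtain ⟨s, hs⟩ := h
  exact both_one (mem_ker_dick_of_odd _ _ (hs ▸ hT)) hs

theorem both_of_blk_two (hQ : Nondeg Q) (hd : finrank F V = 2 * (2 + 1)) {T : ℕ} (hT : Odd T)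
    (h : Blk Q T) : Both (omega8 hab) (2 * T) := by
  obtain ⟨a', b', j, s, ha, hj, hs, hsj⟩ := exists_frame hab hQ (k := 0) hd rfl h
  have hp := Orth.polar_map_of_map_Q j hj
  exact both_two (mem_ker_dick_of_odd _ _ (hs ▸ hT)) hs hT (z := j (Pi.single (.inr 0) 1))
    (w := j (Pi.single (.inr 1) 1)) (by simp [hj, qMinus_apply])
    (by simp [hp, polar_qMinus_zero, ha]) (hsj _)

theorem both_of_blk_four (hQ : Nondeg Q) (hd : finrank F V = 2 * (1 + 1)) {T : ℕ} (hT : Odd T)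
    (h : Blk Q T) : Both (omega8 hab) (4 * T) := by
  obtain ⟨a', b', j, s, ha, hj, hs, hsj⟩ := exists_frame hab hQ (k := 1) hd rfl h
  have hp := Orth.polar_map_of_map_Q j hj
  exact both_four (mem_ker_dick_of_odd _ _ (hs ▸ hT)) hs hT (z := j (Pi.single (.inr 0) 1))
    (w := j (Pi.single (.inr 1) 1)) (e := j (Pi.single (.inl (.inl 0)) 1))
    (f := j (Pi.single (.inl (.inr 0)) 1)) (by simp [hj, qMinus_apply]) (by simp [hj, qMinus_apply])
    (by simp [hp, polar_qMinus_zero, ha]) (by simp [hp, polar_qMinus_inl])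
    (by simp [hp, polar_qMinus_zero]) (by simp [hp, polar_qMinus_one]) (hsj _) (hsj _) (hsj _)
    (hsj _) (eich_mem_ker_dick _ _ _ (by simp [hj, qMinus_apply]))

theorem both_of_blk_eight (hQ : Nondeg Q) (hd : finrank F V = 2 * (0 + 1)) {T : ℕ} (hT : Odd T)
    (h : Blk Q T) : Both (omega8 hab) (8 * T) := by
  obtain ⟨a', b', j, s, ha, hj, hs, hsj⟩ := exists_frame hab hQ (k := 2) hd rfl h
  have hp := Orth.polar_map_of_map_Q j hj
  exact both_eight (mem_ker_dick_of_odd _ _ (hs ▸ hT)) hs hT (z := j (Pi.single (.inr 0) 1))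
    (w := j (Pi.single (.inr 1) 1)) (e := j (Pi.single (.inl (.inl 0)) 1))
    (f := j (Pi.single (.inl (.inr 0)) 1)) (e' := j (Pi.single (.inl (.inl 1)) 1))
    (f' := j (Pi.single (.inl (.inr 1)) 1)) (by simp [hj, qMinus_apply])
    (by simp [hj, qMinus_apply]) (by simp [hj, qMinus_apply])
    (by simp [hp, polar_qMinus_zero, ha]) (by simp [hp, polar_qMinus_inl])
    (by simp [hp, polar_qMinus_inl]) (by simp [hp, polar_qMinus_zero])
    (by simp [hp, polar_qMinus_one]) (by simp [hp, polar_qMinus_zero])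
    (by simp [hp, polar_qMinus_one]) (by simp [hp, polar_qMinus_inl])
    (by simp [hp, polar_qMinus_inr]) (by simp [hp, polar_qMinus_zero])
    (by simp [hp, polar_qMinus_one]) (by simp [hp, polar_qMinus_inl])
    (by simp [hp, polar_qMinus_zero]) (hsj _) (hsj _) (hsj _) (hsj _) (hsj _) (hsj _)
    (eich_mem_ker_dick _ _ _ (by simp [hj, qMinus_apply]))
    (eich_mem_ker_dick _ _ _ (by rw [← map_add, hj]; simp [qMinus_apply]))

omit hab [CharP F 2] [FiniteDimensional F V] in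
theorem Both.of_dvd [Finite V] {Ω : Subgroup (O Q)} {n m : ℕ} (h : Both Ω n) (hm : m ∣ n) :
    Both Ω m := by
  have : Finite (O Q) := Finite.of_injective (fun g : O Q => (g.1 : V → V))
    fun g h H => O_ext (congrFun H)
  have : Finite (AffO Ω) := Finite.of_equiv _ (SemidirectProduct.equivProd).symm
  obtain ⟨⟨x, rfl⟩, ⟨y, hy⟩⟩ := h
  exact ⟨mem_range_orderOf_of_dvd _ hm, mem_range_orderOf_of_dvd y (hy ▸ hm)⟩

omit hab in
theorem coprime_facts {q : ℕ} (hq : Even q) (h0 : 0 < q) : (∀ d, Odd (q ^ (d + 1) - 1)) ∧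
    (∀ d, Odd (q ^ (d + 1) + 1)) ∧ (∀ d, (q ^ (d + 1) - 1).Coprime (q ^ (d + 1) + 1)) := by
  have h1 : ∀ d, Even (q ^ (d + 1)) := fun d => hq.pow_of_ne_zero (by omega)
  have h2 : ∀ d, Odd (q ^ (d + 1) - 1) := fun d =>
    Nat.Even.sub_odd (Nat.one_le_pow _ _ h0) (h1 d) odd_one
  refine ⟨h2, fun d => (h1 d).add_one, fun d => ?_⟩
  have h3 := Nat.one_le_pow (d + 1) q h0
  rw [show q ^ (d + 1) + 1 = 2 + (q ^ (d + 1) - 1) by omega, Nat.coprime_add_self_right]
  exact Nat.coprime_two_right.2 (h2 d)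

theorem both_of_mem_omegaSp8 {N : ℕ} (hN : N ∈ omegaSp8 (Fintype.card F)) :
    Both (omega8 hab) N := by
  obtain ⟨o1, o2, c⟩ := coprime_facts (q := Fintype.card F)
    (Nat.even_iff.2 (FiniteField.even_card_of_char_two (ringChar.eq F 2))) Fintype.card_pos
  have P := fun d => blk_plus (F := F) d
  have M := fun d => blk_minus d hab
  have nP := fun d => nondeg_qPlus (F := F) d
  have nM := fun d => nondeg_qMinus d hab
  set q := Fintype.card F
  have d1 : q ^ (0 + 1) - 1 ∣ q ^ (1 + 1) - 1 := by simpa using Nat.sub_dvd_pow_sub_pow q 1 2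
  have d2 : q ^ (0 + 1) + 1 ∣ q ^ (1 + 1) - 1 := ⟨q - 1, by simpa using Nat.sq_sub_sq q 1⟩
  have d3 : q ^ (0 + 1) - 1 ∣ q ^ (2 + 1) - 1 := by simpa using Nat.sub_dvd_pow_sub_pow q 1 3
  have d4 : q ^ (0 + 1) + 1 ∣ q ^ (2 + 1) + 1 := by
    simpa using Odd.nat_add_dvd_pow_add_pow q 1 (by decide : Odd 3)
  simp only [omegaSp8, Set.mem_ofPred_eq] at hN
  rcases hN with h | h | h | h | h | h | h | h | h | h | h | h
  · exact (both_of_blk_eight hab (nP 1) (by simp) (o1 0) (P 0)).of_dvd (by simpa using h)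
  · exact (both_of_blk_eight hab (nM 0) (by simp) (o2 0) (M 0)).of_dvd (by simpa using h)
  · exact (both_of_blk_four hab (nP 2) (by simp) (o1 1) (P 1)).of_dvd h
  · exact (both_of_blk_four hab (nM 1) (by simp) (o2 1) (M 1)).of_dvd h
  · exact (both_of_blk_two hab (nondeg_prod (nP 1) (nM 1)) (by simp) ((o1 0).mul (o2 1))
      ((P 0).prod (M 1) ((c 1).coprime_dvd_left d1))).of_dvd (by simpa using h)
  · exact (both_of_blk_two hab (nondeg_prod (nM 0) (nM 1)) (by simp) ((o2 0).mul (o2 1))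
      ((M 0).prod (M 1) ((c 1).coprime_dvd_left d2))).of_dvd (by simpa using h)
  · exact (both_of_blk_two hab (nP 3) (by simp) (o1 2) (P 2)).of_dvd h
  · exact (both_of_blk_two hab (nM 2) (by simp) (o2 2) (M 2)).of_dvd h
  · exact (both_of_blk_one hab ((o1 1).mul (o2 1)) (((P 1).prod (M 1) (c 1)).congr
      (equiv_plus_minus 2 1 a b))).of_dvd h
  · exact (both_of_blk_one hab ((o1 0).mul (o2 2)) (((P 0).prod (M 2)
      ((c 2).coprime_dvd_left d3)).congr (equiv_plus_minus 1 2 a b))).of_dvd (by simpa using h)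
  · exact (both_of_blk_one hab ((o1 2).mul (o2 0)) (((P 2).prod (M 0)
      ((c 2).coprime_dvd_right d4)).congr (equiv_plus_minus 3 0 a b))).of_dvd (by simpa using h)
  · exact (both_of_blk_one hab (o2 3) (M 3)).of_dvd h

end CfsgLib.Recog
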