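import Mathlib
import Cfsg.Agent.Lib.Recog.O8Lower
import Cfsg.Agent.Lib.Spec.Affine
import Cfsg.Agent.Lib.MatConj.Tilde

/-!
In characteristic two the element orders of `O(V)` and of `V ⋊ Ω(V)` are element orders of `Sp(V)`.
-/

set_option autoImplicit false

namespace CfsgLib.Recog

open QuadraticMap Module CfsgLib.OrthE CfsgLib.Spec CfsgLib.Forms Matrix Polynomial

theorem count_lt_of_rank {K ι : Type*} [Field K] [Fintype ι] [DecidableEq ι] [IsAlgClosed K]
    [DecidableEq K] {M : Matrix ι ι K} {T : Multiset K} (hT : IsAnn M T) {η : K}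
    (hη : η ∈ M.charpoly.roots) (h : (M - η • 1).rank + 1 ≠ Fintype.card ι) :
    T.count η < M.charpoly.roots.count η := by
  by_contra hcon
  set S := M.charpoly.roots with hS
  obtain ⟨c, hc⟩ : ∃ c, S.count η = c + 1 :=
    ⟨S.count η - 1, by have := Multiset.count_pos.2 hη; omega⟩
  have h0 : aeval M (polyOf (S.erase η)) ≠ 0 := fun H => by
    have := Multiset.count_le_of_le η ((hT.polyOf_iff _).1 H)
    rw [Multiset.count_erase_self] at this
    omega
  obtain ⟨u, hu⟩ : ∃ u, aeval M (polyOf (S.erase η)) *ᵥ u ≠ 0 := by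
    by_contra! H
    exact h0 (Matrix.ext_iff_mulVec.2 fun v => by rw [H, zero_mulVec])
  set R := S.filter (· ≠ η) with hR
  have h1 : S.erase η = Multiset.replicate c η + R := by
    ext a
    rw [Multiset.count_add, Multiset.count_replicate, hR, Multiset.count_filter]
    by_cases ha : a = η
    · subst ha
      simp [hc]
    · simp [ha, Ne.symm ha]
  have h2 : S = Multiset.replicate (c + 1) η + R := by
    rw [← Multiset.cons_erase hη, h1, Multiset.replicate_succ, Multiset.cons_add]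
  let N : Module.End K (ι → K) := toLin' M - η • 1
  have hN : ∀ (k : ℕ) (f : K[X]) (x : ι → K),
      (N ^ k) (aeval M f *ᵥ x) = aeval M ((X - C η) ^ k * f) *ᵥ x := by
    intro k f x
    induction k with
    | zero => simp
    | succ k ih =>
      rw [pow_succ', Module.End.mul_apply, ih, pow_succ', mul_assoc, map_mul (aeval M) (X - C η),
        aeval_X_sub_C, ← mulVec_mulVec]
      simp only [N, LinearMap.sub_apply, toLin'_apply, LinearMap.smul_apply, Module.End.one_apply,
        sub_mulVec, smul_mulVec, one_mulVec]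
  let W : Submodule K (ι → K) := LinearMap.ker (N ^ (c + 1))
  have hW : aeval M (polyOf R) *ᵥ u ∈ W := by
    rw [LinearMap.mem_ker, hN, ← polyOf_replicate, ← polyOf_add, ← h2, polyOf_roots_charpoly,
      aeval_self_charpoly, zero_mulVec]
  have h3 : (N ^ c) (aeval M (polyOf R) *ᵥ u) ≠ 0 := by
    rwa [hN, ← polyOf_replicate, ← polyOf_add, ← h1]
  have h4 : W.map N ≤ W := by
    rintro _ ⟨x, hx, rfl⟩
    rw [LinearMap.mem_ker, ← Module.End.mul_apply, ← pow_succ, pow_succ', Module.End.mul_apply,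
      LinearMap.mem_ker.1 hx, map_zero]
  have h5 : c ≤ finrank K (W.map N) := by
    rcases c with _ | c
    · omega
    have e : ∀ k, W.map (N ^ (k + 1)) = (W.map N).map (N ^ k) := fun k => by
      rw [pow_succ, Module.End.mul_eq_comp, Submodule.map_comp]
    have h5 : (W.map N).map (N ^ c) ≠ ⊥ := e c ▸ (Submodule.ne_bot_iff _).2 ⟨_, ⟨_, hW, rfl⟩, h3⟩
    have h6 := finrank_chain N (W.map N) (Submodule.map_mono h4) h5 (by
      rw [← e, eq_bot_iff]; rintro _ ⟨x, hx, rfl⟩; exact hx)
    have := Submodule.one_le_finrank_iff.2 h5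
    omega
  have h6 : W ≤ Module.End.maxGenEigenspace (toLin' M) η := fun x hx =>
    (Module.End.mem_maxGenEigenspace _ _ _).2 ⟨c + 1, hx⟩
  have h7 := Submodule.finrank_mono h6
  rw [LinearMap.finrank_maxGenEigenspace_eq, charpoly_toLin', ← count_roots, ← hS, hc] at h7
  have h8 := LinearMap.finrank_range_add_finrank_ker (N.domRestrict W)
  have h9 : LinearMap.ker N ≤ W := fun x hx => by
    rw [LinearMap.mem_ker, pow_succ, Module.End.mul_apply, LinearMap.mem_ker.1 hx, map_zero]
  rw [LinearMap.range_domRestrict, LinearMap.ker_domRestrict,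
    (Submodule.comapSubtypeEquivOfLe h9).finrank_eq] at h8
  have h10 := LinearMap.finrank_range_add_finrank_ker N
  have h11 : 1 ≤ finrank K (LinearMap.ker N) := Submodule.one_le_finrank_iff.2
    ((Submodule.ne_bot_iff _).2 ⟨_, by
      rw [LinearMap.mem_ker, ← Module.End.mul_apply, ← pow_succ']; exact hW, h3⟩)
  have h12 : (M - η • 1).rank = finrank K (LinearMap.range N) := by
    rw [rank, show (M - η • 1).mulVecLin = N from LinearMap.ext fun x => by simp [N]]
  rw [finrank_fintype_fun_eq_card] at h10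
  omega

variable {F : Type*} [Field F] [Fintype F] [CharP F 2]

theorem sp_order_mem {n : ℕ} [NeZero n] (A : symplecticGroup (Fin n) F) :
    orderOf A ∈ Set.range (orderOf : Cfsg.PSp n F → ℕ) ∧
      (Even (A.1 - 1).rank → ∑ i ∈ Finset.range (orderOf A), A.1 ^ i ≠ 0 →
        2 * orderOf A ∈ Set.range (orderOf : Cfsg.PSp n F → ℕ)) := by
  classical
  let K := AlgebraicClosure F
  have : CharP K 2 := charP_of_injective_algebraMap (algebraMap F K).injective 2
  rw [spectrum_psp_eq K 2 n]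
  have hinj : Function.Injective (algebraMap F K).mapMatrix :=
    fun (A B : Matrix (Fin n ⊕ Fin n) (Fin n ⊕ Fin n) F) h =>
      Matrix.map_injective (algebraMap F K).injective h
  have hS := spSet_roots (K := K) A.2
  have hT := isAnn_minpoly (A.1.map (algebraMap F K))
  obtain ⟨j, hj⟩ := hT.exists_jord one_lt_two
  have h3 : ∀ m, orderOf A ∣ m ↔ A.1.map (algebraMap F K) ^ m = 1 := by
    intro m
    rw [orderOf_dvd_iff_pow_eq_one, ← RingHom.mapMatrix_apply, ← map_pow, map_eq_one_iff _ hinj,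
      Subtype.ext_iff]
    rfl
  have h4 := fun m => (h3 m).trans (hT.pow_eq_one_iff_jord 2 hj
    (zero_notMem_of_prod_eq_one hS.2.2.2) m)
  have h5 : ∀ m, (∀ a ∈ (A.1.map (algebraMap F K)).charpoly.roots, a ^ m = 1) ↔
      PowEq (A.1.map (algebraMap F K)).charpoly.roots m := fun m =>
    ⟨powEq_of_forall_eq, fun h a ha => pow_char_pow_injective 2 1 (by
      rw [pow_one, ← pow_mul, mul_comm, hS.pow_two_mul_eq_one h ha, one_pow])⟩
  refine ⟨⟨_, hS, j, hj.2.2.imp id fun ⟨a, ha⟩ =>
    ⟨a, ha.trans_le (Multiset.count_le_of_le a hT.le_roots)⟩, fun m => by rw [h4, h5]⟩,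
    fun he h => ⟨_, hS, j + 1, Or.inr ⟨1, ?_⟩, fun m => by rw [char_mul_dvd_iff h4, h5]⟩⟩
  obtain ⟨m, hm, h6⟩ := exists_eq_mul_pow_of_order (orderOf_pos A).ne' h4
  have h7 := hT.geom_eq_zero_iff 2 hm ((h3 _).1 h6.dvd)
  rw [← h6] at h7
  have h8 : 2 ^ j ≤ (minpoly K (A.1.map (algebraMap F K))).roots.count 1 := by
    by_contra! h8
    apply h
    rw [← map_eq_zero_iff _ hinj, map_sum]
    simpa only [map_pow, RingHom.mapMatrix_apply] using h7.2 h8
  refine h8.trans_lt (count_lt_of_rank hT ((hT.mem_iff 1).1 (Multiset.count_pos.1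
    ((pow_pos two_pos j).trans_le h8))) fun h9 => ?_)
  rw [one_smul, ← map_one (algebraMap F K).mapMatrix, ← RingHom.mapMatrix_apply, ← map_sub,
    RingHom.mapMatrix_apply, MatConj.rank_map, Fintype.card_sum, Fintype.card_fin] at h9
  obtain ⟨r, hr⟩ := he
  omega

variable {V : Type*} [AddCommGroup V] [Module F V] [FiniteDimensional F V] {Q : QuadraticForm F V}

omit [Fintype F] in
theorem exists_sp_hom (hQ : Nondeg Q) {n : ℕ} (hd : finrank F V = 2 * n) :
    ∃ (e : V ≃ₗ[F] (Fin n ⊕ Fin n → F)) (φ : O Q →* symplecticGroup (Fin n) F),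
      Function.Injective φ ∧ ∀ g v, (φ g).1 *ᵥ e v = e (g.1 v) := by
  have hA : LinearMap.BilinForm.IsAlt (polarBilin Q) := fun x => by
    rw [polarBilin_apply_apply, polar_self', CharTwo.two_eq_zero, zero_mul]
  obtain ⟨e, he⟩ := (ofAlt _ hA).exists_isIso₂_spPQ hQ rfl hd
  refine ⟨e, ((PQ.isomCongr he).trans (spEquiv (Fin n) F).symm).toMonoidHom.comp
    ((O Q).subtype.codRestrict _ fun g => (ofAlt_isIso _ _ _).2 (O_polar g)),
    fun a b hab => ?_, fun g v => ?_⟩
  · have h := congrArg Subtype.val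
      (((PQ.isomCongr he).trans (spEquiv (Fin n) F).symm).injective hab)
    exact Subtype.ext h
  · rw [← spEquiv_apply]
    simp [PQ.isomCongr]
    rfl

theorem range_O_subset (hQ : Nondeg Q) {n : ℕ} [NeZero n] (hd : finrank F V = 2 * n) :
    Set.range (orderOf : O Q → ℕ) ⊆ Set.range (orderOf : Cfsg.PSp n F → ℕ) := by
  obtain ⟨e, φ, hφ, -⟩ := exists_sp_hom hQ hd
  rintro _ ⟨g, rfl⟩
  exact orderOf_injective φ hφ g ▸ (sp_order_mem (φ g)).1

theorem range_affO_subset (hQ : Nondeg Q) {n : ℕ} [NeZero n] (hd : finrank F V = 2 * n)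
    (h24 : Nat.card F ≠ 2 ∨ finrank F V ≠ 4) :
    Set.range (orderOf : AffO (dick hQ h24).ker → ℕ) ⊆ Set.range (orderOf : Cfsg.PSp n F → ℕ) := by
  obtain ⟨e, φ, hφ, he⟩ := exists_sp_hom hQ hd
  have : Finite V := Module.finite_of_finite F
  have : Finite (O Q) := Finite.of_injective (fun g : O Q => (g.1 : V → V))
    fun g h H => O_ext (congrFun H)
  rintro _ ⟨⟨v, g, hg⟩, rfl⟩
  have h1 := sp_order_mem (φ g)
  rw [orderOf_injective φ hφ] at h1
  rw [orderOf_semidirect, ← Subgroup.orderOf_coe]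
  change orderOf g * orderOf (∏ j ∈ Finset.range (orderOf g),
    Multiplicative.ofAdd ((g ^ j).1 v.toAdd)) ∈ _
  rw [← ofAdd_sum]
  by_cases h : ∑ j ∈ Finset.range (orderOf g), (g ^ j).1 v.toAdd = 0
  · rw [h, ofAdd_zero, orderOf_one, mul_one]
    exact h1.1
  rw [orderOf_eq_prime (p := 2)
    (x := Multiplicative.ofAdd (∑ j ∈ Finset.range (orderOf g), (g ^ j).1 v.toAdd))
    (by rw [pow_two, ← ofAdd_add, add_self_vec F, ofAdd_zero]) h, mul_comm]
  refine h1.2 ?_ fun h2 => h (e.injective ?_)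
  · have h3 := even_of_mem_ker_dick hQ h24 hg
    rwa [rank, show ((φ g).1 - 1).mulVecLin = (e.toLinearMap.comp ((g.1 : V →ₗ[F] V) -
      LinearMap.id)).comp e.symm.toLinearMap from LinearMap.ext fun x => by
        obtain ⟨x, rfl⟩ := e.surjective x
        simp [sub_mulVec, he], LinearMap.range_comp_of_range_eq_top _ e.symm.range,
      LinearMap.range_comp, LinearEquiv.finrank_map_eq]
  · have h3 := congrArg (· *ᵥ e v.toAdd) h2
    simp only [Matrix.sum_mulVec, zero_mulVec] at h3
    rw [map_sum, map_zero, ← h3]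
    exact Finset.sum_congr rfl fun j _ => by rw [← he, map_pow]; rfl

variable {a b : F} (hab : ∀ z₁ z₂ : F, z₁ ^ 2 + a * z₁ * z₂ + b * z₂ ^ 2 = 0 → z₁ = 0 ∧ z₂ = 0)
include hab

theorem both_of_mem_psp {N : ℕ} (hN : N ∈ Set.range (orderOf : Cfsg.PSp 4 F → ℕ)) :
    Both (omega8 hab) N := by
  classical
  let K := AlgebraicClosure F
  have : CharP K 2 := charP_of_injective_algebraMap (algebraMap F K).injective 2
  rw [spectrum_psp_eq K 2 4] at hN
  exact both_of_mem_omegaSp8 hab (omegaSp_four_upper Fintype.card_pos frob_injective hN)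

theorem spectrum_O8 :
    Set.range (orderOf : Cfsg.PSp 4 F → ℕ) = Set.range (orderOf : O (qMinus F 3 a b) → ℕ) :=
  Set.Subset.antisymm (fun _ h => (both_of_mem_psp hab h).1)
    (range_O_subset (nondeg_eight hab) (by simp))

theorem spectrum_affO8 :
    Set.range (orderOf : AffO (omega8 hab) → ℕ) = Set.range (orderOf : Cfsg.PSp 4 F → ℕ) :=
  Set.Subset.antisymm (range_affO_subset (nondeg_eight hab) (by simp) _)
    fun _ h => (both_of_mem_psp hab h).2

end CfsgLib.Recog
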