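import Mathlib
import Cfsg.Agent.Lib.Recog.CoverPG

/-!
Prime graphs given by explicit vertex and edge predicates; coset sums and conjugation.
-/

set_option autoImplicit false

namespace CfsgLib.Recog

open Finset

/-- The prime graph of `G` has the vertices `V` and the edges `r s` with `E (r * s)`. -/
def HasPG (G : Type*) [Group G] (V E : ℕ → Prop) : Prop :=
  (∀ r : ℕ, r.Prime → (r ∈ Set.range (orderOf : G → ℕ) ↔ V r)) ∧
    ∀ r s : ℕ, r.Prime → s.Prime → r ≠ s → V r → V s →
      (r * s ∈ Set.range (orderOf : G → ℕ) ↔ E (r * s))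

theorem HasPG.samePG {G H : Type*} [Group G] [Group H] [Finite G] [Finite H] {V E : ℕ → Prop}
    (hG : HasPG G V E) (hH : HasPG H V E) : SamePG G H := by
  have key : ∀ (X : Type _) [Group X] [Finite X] (r : ℕ), r.Prime →
      (r ∣ Nat.card X ↔ r ∈ Set.range (orderOf : X → ℕ)) := by
    intro X _ _ r hr
    have := Fact.mk hr
    exact ⟨fun h => exists_prime_orderOf_dvd_card' r h, fun ⟨x, h⟩ => h ▸ orderOf_dvd_natCard x⟩
  have key' : ∀ (X : Type _) [Group X] [Finite X] (r : ℕ), r.Prime →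
      (r ∣ Nat.card X ↔ r ∈ Set.range (orderOf : X → ℕ)) := by
    intro X _ _ r hr
    have := Fact.mk hr
    exact ⟨fun h => exists_prime_orderOf_dvd_card' r h, fun ⟨x, h⟩ => h ▸ orderOf_dvd_natCard x⟩
  refine ⟨fun r hr => by rw [key G r hr, key' H r hr, hG.1 r hr, hH.1 r hr], fun r s hr hs hrs => ?_⟩
  constructor
  · rintro ⟨x, hx⟩
    have h1 := (hG.1 r hr).1 (mem_range_orderOf_of_dvd x (hx ▸ dvd_mul_right r s))
    have h2 := (hG.1 s hs).1 (mem_range_orderOf_of_dvd x (hx ▸ dvd_mul_left s r))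
    exact (hH.2 r s hr hs hrs h1 h2).2 ((hG.2 r s hr hs hrs h1 h2).1 ⟨x, hx⟩)
  · rintro ⟨x, hx⟩
    have h1 := (hH.1 r hr).1 (mem_range_orderOf_of_dvd x (hx ▸ dvd_mul_right r s))
    have h2 := (hH.1 s hs).1 (mem_range_orderOf_of_dvd x (hx ▸ dvd_mul_left s r))
    exact (hG.2 r s hr hs hrs h1 h2).2 ((hH.2 r s hr hs hrs h1 h2).1 ⟨x, hx⟩)

theorem HasPG.of_range_eq {G H : Type*} [Group G] [Group H] {V E : ℕ → Prop} (hG : HasPG G V E)
    (h : Set.range (orderOf : H → ℕ) = Set.range (orderOf : G → ℕ)) : HasPG H V E := by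
  rw [HasPG, h]
  exact hG

theorem cosetSum_eq_sum_zpowers {H A : Type*} [Group H] [Finite H] [AddCommGroup A] (f : H → A)
    (h x : H) [Fintype (Subgroup.zpowers h)] :
    cosetSum f h x = ∑ y : Subgroup.zpowers h, f (x * y) := by
  rw [cosetSum, sum_range]
  exact Fintype.sum_equiv (finEquivZPowers (isOfFinOrder_of_finite h)) _ _ fun j => by
    rw [finEquivZPowers_apply]

theorem cosetSum_congr {H A : Type*} [Group H] [Finite H] [AddCommGroup A] (f : H → A) {h h' : H}
    (e : Subgroup.zpowers h = Subgroup.zpowers h') (x : H) : cosetSum f h x = cosetSum f h' x := by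
  have := Fintype.ofFinite (Subgroup.zpowers h)
  have := Fintype.ofFinite (Subgroup.zpowers h')
  rw [cosetSum_eq_sum_zpowers, cosetSum_eq_sum_zpowers]
  exact Fintype.sum_equiv (MulEquiv.subgroupCongr e).toEquiv _ _ fun _ => rfl

/-- If the Sylow `p`-subgroups have order `p`, one element of order `p` is enough. -/
theorem cosetSum_eq_zero_of_conj {H A : Type*} [Group H] [Finite H] [AddCommGroup A] (f : H → A)
    {p : ℕ} [Fact p.Prime] (hG : (Nat.card H).factorization p = 1) {g : H} (hg : orderOf g = p)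
    (hf : ∀ x y, ∑ j ∈ range p, f (x * g ^ j * y) = 0) (h : H) (hh : orderOf h = p) (x : H) :
    cosetSum f h x = 0 := by
  obtain ⟨c, hc⟩ := exists_conj_mem_zpowers hG hh hg
  have ho : orderOf (c * h * c⁻¹) = p := by rw [← hh]; exact (MulAut.conj c).orderOf_eq h
  have e : Subgroup.zpowers (c * h * c⁻¹) = Subgroup.zpowers g :=
    Subgroup.eq_of_le_of_card_ge (Subgroup.zpowers_le.2 hc)
      (by rw [Nat.card_zpowers, Nat.card_zpowers, ho, hg])
  have h1 := cosetSum_congr (fun z => f (z * c)) e (x * c⁻¹)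
  rw [cosetSum_eq _ _ ho, cosetSum_eq _ _ hg, hf] at h1
  rw [cosetSum_eq _ _ hh, ← h1]
  apply sum_congr rfl
  intro j _
  rw [conj_pow]
  congr 1
  group

end CfsgLib.Recog
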